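import Cfsg.Agent.ThAut52.Main

/-!
The images of u and b, and the conclusion.
-/

set_option autoImplicit false
set_option maxRecDepth 100000

namespace CfsgLib.ThAut52

open CfsgLib.ThRep32 CfsgLib.ThCent69 Subgroup

/-- the generators other than b and u are fixed, up to the two normalised choices -/
structure FixTri (β : MulAut Th) (n : ℕ) : Prop where
  ast : FixAST β
  c : β (W [2]) = W [2]
  d : β (W [3]) = W (nrmDE n).1
  e : β (W [4]) = W (nrmDE n).2

/-- the automorphism fixes all generators but b -/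
structure FixK (β : MulAut Th) : Prop where
  ast : FixAST β
  c : β (W [2]) = W [2]
  d : β (W [3]) = W [3]
  e : β (W [4]) = W [4]
  u : β (W [9]) = W [9]

theorem n_facts : (List.range 2).all (fun n =>
    noB (nrmDE n).1 && noB (nrmDE n).2 &&
      lst (P (nrmDE n).1) == lst Alt.dP && lst (P (nrmDE n).2) == lst Alt.eP) = true := by
  decide +kernel

theorem factorization_of {p k m n : ℕ} (hp : p.Prime) (hm : ¬ p ∣ m) (h : n = p ^ k * m) :
    n.factorization p = k := by
  have hm0 : m ≠ 0 := fun h0 => hm (h0 ▸ dvd_zero p)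
  rw [h, Nat.factorization_mul (pow_ne_zero _ hp.ne_zero) hm0, Finsupp.add_apply,
    hp.factorization_pow, Finsupp.single_eq_same, Nat.factorization_eq_zero_of_not_dvd hm,
    Nat.add_zero]

variable (F : Facts)
include F

theorem stage_u {β : MulAut Th} {n : ℕ} (hn : n < 2) (h : FixTri β n) :
    n = 0 ∧ β (W [9]) = W [9] := by
  set D := (nrmDE n).1 with hD
  set E := (nrmDE n).2 with hE
  have hfacts := List.all_eq_true.1 n_facts n (List.mem_range.2 hn)
  simp only [Bool.and_eq_true] at hfacts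
  obtain ⟨⟨⟨hDn, hEn⟩, hDP⟩, hEP⟩ := hfacts
  set U := β (W [9]) with hU
  have hm : U ∈ Kw := mem_Kw F h.ast.a (W_mem_Kw rfl)
  have iU : β (W [10]) = U⁻¹ := by
    rw [show W [10] = (W [9])⁻¹ from W_iw F.inj (w := [9]) rfl, map_inv]
  have i6 : β (W [6]) = W [6] := by
    rw [show W [6] = (W [5])⁻¹ from W_iw F.inj (w := [5]) rfl, map_inv, h.ast.s]
  have i8 : β (W [8]) = W [8] := by
    rw [show W [8] = (W [7])⁻¹ from W_iw F.inj (w := [7]) rfl, map_inv, h.ast.t]
  let f : Kw →* P9 := phi F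
  let σ : P9 := f ⟨U, hm⟩
  -- relations of U
  have tU : W [7] * U = U * W [8] := by
    rw [← h.ast.t, ← i8, hU, ← map_mul, ← map_mul, ← W_append, ← W_append]
    exact rel F (by decide +kernel) β
  have cU : W [2] * U = U * W [2] := by
    rw [← h.c]; exact comm_map F β (by decide +kernel)
  have eU : U * W E = W E * U := by
    rw [hE, ← h.e]; exact comm_map F β (by decide +kernel)
  have U2 : U * U = W [0] * W [2] := by
    rw [← h.ast.a, ← h.c, hU, ← map_mul, ← map_mul, ← W_append, ← W_append]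
    exact rel F (by decide +kernel) β
  have us : U * W [5] * (U * W [5]) * (U * W [5]) = W [0] * W [2] := by
    rw [← h.ast.a, ← h.c, ← h.ast.s, hU]
    simp only [← map_mul, ← W_append]
    exact rel F (by decide +kernel) β
  have ded : W D * W E * (U⁻¹ * W D * U) * (W D * W E * (U⁻¹ * W D * U)) = 1 := by
    rw [hD, hE, ← h.d, ← h.e, ← iU, hU]
    simp only [← map_mul, ← W_append]
    rw [one_of F (by decide +kernel), map_one]
  have ey : W E * (W [6] * W [6] * U * W [5] * W [5]) =
      W [6] * W [6] * U * W [5] * W [5] * W E := by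
    rw [hE, ← h.e, ← h.ast.s, ← i6, hU]
    simp only [← map_mul, ← W_append]
    exact rel F (by decide +kernel) β
  have long : W D * (W [6] * W [6] * U * W [5] * W [5]) * (W D * (W [6] * W [6] * U * W [5] * W [5])) *
      (W D * (W [6] * W [6] * U * W [5] * W [5])) * (W D * (W [6] * W [6] * U * W [5] * W [5])) =
      W [0] * W [2] * W D * W [2] * W D * W [5] * W E * W D * W [2] * W D * W E * W [6] *
        (W [6] * W [6]) * W E * W D * W [2] * W D * W E * (W [5] * W [5]) := by
    rw [hD, hE, ← h.d, ← h.e, ← h.ast.a, ← h.c, ← h.ast.s, ← i6, hU]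
    simp only [← map_mul, ← W_append]
    exact rel F (by decide +kernel) β
  -- in the alternating group
  let kk : ∀ w, noB w = true → Kw := fun w hw => ⟨W w, W_mem_Kw hw⟩
  have fD : f (kk D hDn) = Alt.dP := (phi_W F hDn).trans (lst_inj (eq_of_beq hDP))
  have fE : f (kk E hEn) = Alt.eP := (phi_W F hEn).trans (lst_inj (eq_of_beq hEP))
  have f5 : f (kk [5] rfl) = Alt.sP := (phi_W F (w := [5]) rfl).trans (by simp [P, pv])
  have f7 : f (kk [7] rfl) = Alt.tP := (phi_W F (w := [7]) rfl).trans (by simp [P, pv])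
  have f8 : f (kk [8] rfl) = Alt.tP⁻¹ := (phi_W F (w := [8]) rfl).trans (by simp [P, pv])
  have f02 : f (kk [0] rfl) * f (kk [2] rfl) = 1 := by
    rw [phi_W F (w := [0]) rfl, phi_W F (w := [2]) rfl]; simp [P, pv]
  have s2 : σ * σ = 1 := by
    rw [← map_mul, show (⟨U, hm⟩ : Kw) * ⟨U, hm⟩ = kk [0] rfl * kk [2] rfl from Subtype.ext U2,
      map_mul, f02]
  have st : σ * Alt.tP = Alt.tP⁻¹ * σ := by
    have := congrArg f (show kk [7] rfl * ⟨U, hm⟩ = ⟨U, hm⟩ * kk [8] rfl from Subtype.ext tU)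
    rw [map_mul, map_mul, f7, f8] at this
    calc σ * Alt.tP = Alt.tP⁻¹ * (Alt.tP * σ) * Alt.tP := by group
      _ = Alt.tP⁻¹ * (σ * Alt.tP⁻¹) * Alt.tP := by rw [this]
      _ = _ := by group
  have se : σ * Alt.eP = Alt.eP * σ := by
    rw [← fE, ← map_mul, ← map_mul]
    exact congrArg f (Subtype.ext eU)
  have s3 : σ * Alt.sP * (σ * Alt.sP) * (σ * Alt.sP) = 1 := by
    rw [← f5, ← map_mul, ← map_mul, ← map_mul,
      show (⟨U, hm⟩ : Kw) * kk [5] rfl * (⟨U, hm⟩ * kk [5] rfl) * (⟨U, hm⟩ * kk [5] rfl) =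
        kk [0] rfl * kk [2] rfl from Subtype.ext us, map_mul, f02]
  have s4 : Alt.dP * Alt.eP * (σ * Alt.dP * σ) * (Alt.dP * Alt.eP * (σ * Alt.dP * σ)) = 1 := by
    have := congrArg f (show kk D hDn * kk E hEn * (⟨U, hm⟩⁻¹ * kk D hDn * ⟨U, hm⟩) *
      (kk D hDn * kk E hEn * (⟨U, hm⟩⁻¹ * kk D hDn * ⟨U, hm⟩)) = 1 from Subtype.ext ded)
    simp only [map_mul, map_inv, map_one, fD, fE] at this
    rwa [show (f ⟨U, hm⟩)⁻¹ = σ from inv_eq_of_mul_eq_one_left s2] at this
  -- lifts
  have go : ∀ k : ℕ, k < 2 → σ = P (liftW (k + 1)) →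
      ∃ p ∈ qU n k, U = W (liftW (k + 1) ++ p.1) := fun k hk he => by
    have hnb : noB (liftW (k + 1)) = true := by interval_cases k <;> decide +kernel
    obtain ⟨q, hq, e⟩ := lift_word F hm hnb he
    have ct : eqKOK (7 :: liftW (k + 1), liftW (k + 1) ++ [8]) = true ∧
        eqKOK (2 :: liftW (k + 1), liftW (k + 1) ++ [2]) = true := by
      interval_cases k
      · exact ⟨liftT_ok.2.1, liftT_ok.2.2.2.2.2.1⟩
      · exact ⟨liftT_ok.2.2.1, liftT_ok.2.2.2.2.2.2.1⟩
    have w7 : W [7] * W (liftW (k + 1)) = W (liftW (k + 1)) * W [8] := by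
      rw [← W_append, ← W_append]; exact eqK F ct.1
    have q2 : Commute (W [2]) (W q) := suffix_comm (comm_of F ct.2) e cU
    have q7 : Commute (W [7]) (W q) := by
      have h1 := tU
      rw [e, W_append, ← mul_assoc, w7, mul_assoc, mul_assoc] at h1
      have h2 : Commute (W [8]) (W q) := mul_left_cancel h1
      rw [show W [8] = (W [7])⁻¹ from W_iw F.inj (w := [7]) rfl] at h2
      exact Commute.inv_left_iff.1 h2
    obtain ⟨q', hp, e2⟩ := lift_pair F (k := k + 1) (by omega) (mem_qT F hq q7)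
    refine ⟨(q, q'), ?_, e⟩
    have hl := List.all_eq_true.1 (List.all_eq_true.1 uSufOK n (List.mem_range.2 hn)) k
      (List.mem_range.2 hk)
    refine mem_of_listOK (hnH F) hl hp fun p hp' => ?_
    simp only [uSufEq, List.mem_cons, List.not_mem_nil, or_false] at hp'
    rcases hp' with rfl | rfl | rfl
    · rw [W_append, W_append]; exact q2.eq.symm
    · have het := eqK F (List.all_eq_true.1 (List.all_eq_true.1 etU_ok n (List.mem_range.2 hn)) k
        (List.mem_range.2 hk))
      rw [W_append, W_append, ← hE] at het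
      have h1 := eU
      rw [e, W_append, ← mul_assoc (W E), het, mul_assoc, mul_assoc] at h1
      rw [W_append, W_append, ← hE]
      exact mul_left_cancel h1
    · rw [← e2, ← e, U2, ← W_append]; rfl
  obtain ⟨x, hx, e⟩ : ∃ x ∈ uC n, U = W x := by
    rcases u_bar st s2 se s3 s4 (sign_phi F _) with he | he
    · obtain ⟨p, hp, e⟩ := go 0 (by norm_num) he
      exact ⟨_, List.mem_append.2 (Or.inl (List.mem_map.2 ⟨p, hp, rfl⟩)), e⟩
    · obtain ⟨p, hp, e⟩ := go 1 (by norm_num) he
      exact ⟨_, List.mem_append.2 (Or.inr (List.mem_map.2 ⟨p, hp, rfl⟩)), e⟩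
  have heq : ∀ p ∈ uEq D E x, W p.1 = W p.2 := by
    have a66 : ([6, 6] : List ℕ) = [6] ++ [6] := rfl
    have a55 : ([5, 5] : List ℕ) = [5] ++ [5] := rfl
    have a02 : ([0, 2] : List ℕ) = [0] ++ [2] := rfl
    intro p hp
    simp only [uEq, uS2, List.mem_cons, List.not_mem_nil, or_false] at hp
    rcases hp with rfl | rfl | rfl
    · rw [a02]
      simp only [W_append, ← e, mul_assoc] at us ⊢
      exact us
    · rw [a66, a55]
      simp only [W_append, ← e, mul_assoc] at ey ⊢
      exact ey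
    · rw [a66, a55, a02]
      simp only [W_append, ← e, mul_assoc] at long ⊢
      exact long
  obtain rfl | rfl : n = 0 ∨ n = 1 := by omega
  · have := mem_of_listOK hnR uOK hx heq
    rw [List.mem_singleton] at this
    exact ⟨rfl, e.trans (congrArg W this)⟩
  · exact absurd (mem_of_listOK hnR uOK' hx heq) List.not_mem_nil

/-! ### the image of b -/

theorem stage_b {β : MulAut Th} (h : FixK β) : β (W [1]) = W [1] ∨ β (W [1]) = W [0, 1, 0] := by
  set B := β (W [1]) with hB
  have B2 : B * B = 1 := sq_map F β (by norm_num)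
  set G := W gW with hG
  have hg1 : G * W [0] * G⁻¹ = W [4] := by
    have h0 := eqv F gW_ok1
    rw [show 4 :: gW = [4] ++ gW from rfl, W_append, W_append, ← hG] at h0
    rw [h0, mul_inv_cancel_right]
  have hg2 : G * W [7] = W [7] * G := by
    rw [hG, ← W_append, ← W_append]; exact eqv F gW_ok2
  have eB : B * W [4] = W [4] * B := by
    rw [← h.e]; exact ((be_comm F).map β).eq
  have tB : B * W [7] = W [7] * B := by
    rw [← h.ast.t]; exact ((bt_comm F).map β).eq
  set X := G⁻¹ * B * G with hX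
  have hBX : B = G * X * G⁻¹ := by rw [hX]; group
  have hXK : X ∈ Kw := mem_of_comm F (by
    rw [hX]
    calc G⁻¹ * B * G * W [0] = G⁻¹ * B * (G * W [0] * G⁻¹) * G := by group
      _ = G⁻¹ * (W [4] * B) * G := by rw [hg1, mul_assoc G⁻¹ B, eB]
      _ = G⁻¹ * (G * W [0] * G⁻¹ * B) * G := by rw [hg1]
      _ = _ := by group)
  have hGi : G⁻¹ * W [7] = W [7] * G⁻¹ :=
    (Commute.inv_left (show Commute G (W [7]) from hg2)).eq
  have tX : W [7] * X = X * W [7] := by
    rw [hX, ← mul_assoc, ← mul_assoc, ← hGi, mul_assoc G⁻¹ (W [7]) B, ← tB, ← mul_assoc G⁻¹,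
      mul_assoc _ (W [7]) G, ← hg2, ← mul_assoc]
  have X2 : X * X = 1 := by
    rw [hX]
    calc G⁻¹ * B * G * (G⁻¹ * B * G) = G⁻¹ * (B * B) * G := by group
      _ = 1 := by rw [B2]; group
  have f7 : phi F ⟨W [7], W_mem_Kw rfl⟩ = Alt.tP := (phi_W F (w := [7]) rfl).trans (by simp [P, pv])
  let σ := phi F ⟨X, hXK⟩
  have st : σ * Alt.tP = Alt.tP * σ := by
    rw [← f7, ← map_mul, ← map_mul]
    exact congrArg (phi F) (Subtype.ext tX.symm)
  have s2 : σ * σ = 1 := by
    rw [← map_mul, ← map_one (phi F)]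
    exact congrArg (phi F) (Subtype.ext X2)
  have hgok : okW gW = true := rfl
  have hXA : X * W [4, 0] * (X * W [4, 0]) * (X * W [4, 0]) = 1 := by
    have gA : G * W [4, 0] = W [0] * G := by
      rw [hG, ← W_append, ← W_append]; exact eqv F gA_ok
    have r1 : B * W [0] * (B * W [0]) * (B * W [0]) = 1 := by
      rw [← h.ast.a, hB]
      simp only [← map_mul, ← W_append]
      rw [show ([1] ++ [0] ++ ([1] ++ [0]) ++ ([1] ++ [0]) : List ℕ) = [1, 0, 1, 0, 1, 0] from rfl,
        ba_cube F, map_one]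
    have e1 : X * W [4, 0] = G⁻¹ * (B * W [0]) * G := by
      rw [hX, mul_assoc (G⁻¹ * B) G, gA]; group
    rw [e1]
    calc G⁻¹ * (B * W [0]) * G * (G⁻¹ * (B * W [0]) * G) * (G⁻¹ * (B * W [0]) * G)
        = G⁻¹ * (B * W [0] * (B * W [0]) * (B * W [0])) * G := by group
      _ = 1 := by rw [r1]; group
  have se : σ * Alt.eP * (σ * Alt.eP) * (σ * Alt.eP) = 1 := by
    have f40 : phi F ⟨W [4, 0], W_mem_Kw rfl⟩ = Alt.eP := (phi_W F (w := [4, 0]) rfl).trans (by simp [P, pv])
    rw [← f40, ← map_mul, ← map_mul, ← map_mul, ← map_one (phi F)]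
    exact congrArg (phi F) (Subtype.ext hXA)
  obtain ⟨w, hw, he⟩ := x_bar st s2 se (sign_phi F _)
  have hwn : xWords.all (fun w => noB w) = true := by decide +kernel
  obtain ⟨q, hq, e⟩ := lift_word F hXK (List.all_eq_true.1 hwn _ hw) he
  have hsix : ∀ p ∈ sixW, p.1 ≠ w := by
    rintro p hp rfl
    have h6 := List.all_eq_true.1 six_ok p hp
    rw [Bool.and_eq_true] at h6
    have hqT := mem_qT F hq (suffix_comm (comm_of F h6.2) e tX)
    refine List.not_mem_nil (mem_of_listOK (hnH F) (List.all_eq_true.1 sixOK p hp) hqT fun r hr => ?_)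
    rw [sixEq, List.mem_singleton] at hr
    subst hr
    have hg3 : G * W epsW * G⁻¹ = W [6, 4, 5] := by
      have h0 := eqv F eps_ok
      rw [W_append, W_append, ← hG] at h0
      rw [h0, mul_inv_cancel_right]
    have h65 : W [6, 4, 5] = W [6] * W [4] * W [5] := by
      rw [← W_append, ← W_append]; rfl
    have cs : Commute B (W [5]) := by
      show B * W [5] = W [5] * B
      rw [← h.ast.s, hB]
      exact ((bs_comm F).map β).eq
    have c6 : Commute B (W [6]) := by
      rw [show W [6] = (W [5])⁻¹ from W_iw F.inj (w := [5]) rfl]; exact cs.inv_right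
    have cB : B * W [6, 4, 5] = W [6, 4, 5] * B := by
      rw [h65]
      exact (((c6.mul_right (show Commute B (W [4]) from eB)).mul_right cs)).eq
    have cX : W epsW * X = X * W epsW := by
      rw [show W epsW = G⁻¹ * W [6, 4, 5] * G by rw [← hg3]; group, hX]
      calc G⁻¹ * W [6, 4, 5] * G * (G⁻¹ * B * G) = G⁻¹ * (W [6, 4, 5] * B) * G := by group
        _ = G⁻¹ * (B * W [6, 4, 5]) * G := by rw [cB]
        _ = _ := by group
    have hew := eqK F h6.1
    rw [W_append, W_append] at hew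
    rw [e, W_append, ← mul_assoc, hew, mul_assoc, mul_assoc] at cX
    rw [W_append, W_append]
    exact (mul_left_cancel cX).symm
  have hcases : w = [4] ∨ w = liftW 3 ∨ w = liftW 4 := by
    have hl : xWords.all (fun w => (sixW.map (·.1)).elem w ||
        (w == [4] || w == liftW 3 || w == liftW 4)) = true := by decide +kernel
    have := List.all_eq_true.1 hl w hw
    simp only [Bool.or_eq_true, List.elem_eq_mem, decide_eq_true_eq, beq_iff_eq, List.mem_map] at this
    rcases this with ⟨p, hp, hpw⟩ | (h1 | h1) | h1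
    · exact absurd hpw (hsix p hp)
    · exact Or.inl h1
    · exact Or.inr (Or.inl h1)
    · exact Or.inr (Or.inr h1)
  obtain ⟨x, hxC, e'⟩ : ∃ x ∈ bC, X = W x := by
    rcases hcases with rfl | rfl | rfl
    · have hqT := mem_qT F hq (suffix_comm (comm_of F liftT_ok.2.2.2.2.2.2.2) e tX)
      refine ⟨_, List.mem_append.2 (Or.inl (List.mem_append.2 (Or.inl
        (List.mem_map.2 ⟨q, ?_, rfl⟩)))), e⟩
      refine mem_of_listOK (hnH F) b0sqOK hqT fun p hp => ?_
      rw [sq0Eq, List.mem_singleton] at hp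
      subst hp
      rw [show [4] ++ q ++ [4] ++ q = ([4] ++ q) ++ ([4] ++ q) from List.append_assoc _ _ _,
        W_append, ← e]
      exact X2
    · obtain ⟨q', hp, e2⟩ := lift_pair F (k := 3) (by norm_num)
        (mem_qT F hq (suffix_comm (comm_of F liftT_ok.2.2.2.1) e tX))
      refine ⟨_, List.mem_append.2 (Or.inl (List.mem_append.2 (Or.inr
        (List.mem_map.2 ⟨(q, q'), ?_, rfl⟩)))), e⟩
      refine mem_of_listOK (hnH F) b1sqOK hp fun p hp' => ?_
      rw [sqEq, List.mem_singleton] at hp'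
      subst hp'
      rw [← e2, ← e]
      exact X2
    · obtain ⟨q', hp, e2⟩ := lift_pair F (k := 4) (by norm_num)
        (mem_qT F hq (suffix_comm (comm_of F liftT_ok.2.2.2.2.1) e tX))
      refine ⟨_, List.mem_append.2 (Or.inr (List.mem_map.2 ⟨(q, q'), ?_, rfl⟩)), e⟩
      refine mem_of_listOK (hnH F) b2sqOK hp fun p hp' => ?_
      rw [sqEq, List.mem_singleton] at hp'
      subst hp'
      rw [← e2, ← e]
      exact X2
  clear hcases hsix hw he hq e
  rename' e' => e
  have hb : B = W (bOf x) := by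
    rw [bOf, W_append, W_append, W_iw F.inj hgok, ← e]; exact hBX
  have h1 : ∀ p ∈ bEq1 x, W p.1 = W p.2 := fun p hp => by
    rw [bEq1, List.mem_singleton] at hp
    subst hp
    simp only [W_append, ← e]
    exact hXA
  have m1 : x ∈ bS1 := by
    rw [← List.take_append_drop 8 bC, List.mem_append] at hxC
    rcases hxC with hxC | hxC
    · exact mem_of_listOK hnR bOK1a hxC h1
    · rw [← List.take_append_drop 8 (bC.drop 8), List.mem_append, List.drop_drop] at hxC
      rcases hxC with hxC | hxC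
      · exact mem_of_listOK hnR bOK1b hxC h1
      · exact mem_of_listOK hnR bOK1c hxC h1
  have h2 : ∀ p ∈ bEq2 x, W p.1 = W p.2 := fun p hp => by
    rw [bEq2, List.mem_singleton] at hp
    subst hp
    rw [W_append, W_append, ← hb, ← h.d]
    exact ((bd_comm F).map β).eq
  have m2 : x ∈ bS2 := by
    rw [← List.take_append_drop 4 bS1, List.mem_append] at m1
    rcases m1 with m1 | m1
    · exact mem_of_listOK hnR bOK2a m1 h2
    · exact mem_of_listOK hnR bOK2b m1 h2
  have := mem_of_listOK hnR bOK3 m2 fun p hp => by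
    rw [bEq3, List.mem_singleton] at hp
    subst hp
    simp only [W_append, ← hb]
    rw [← h.c, hB]
    simp only [← map_mul, ← W_append]
    rw [show ([1] ++ [2] ++ [1] ++ [2] ++ [1] ++ [2] : List ℕ) = [1, 2, 1, 2, 1, 2] from rfl,
      bc_cube F, map_one]; rfl
  have hsplit : bS = [bS.getD 0 [], bS.getD 1 []] := by decide +kernel
  rw [hsplit] at this
  simp only [List.mem_cons, List.not_mem_nil, or_false] at this
  rcases this with h' | h'
  · right
    have h0 := eqv F bS_ok1
    rw [W_append, W_append, ← hG] at h0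
    rw [hb, h', bOf, W_append, W_append, W_iw F.inj hgok, ← hG, h0, mul_inv_cancel_right]
  · left
    have h0 := eqv F bS_ok2
    rw [show 1 :: gW = [1] ++ gW from rfl, W_append, W_append, ← hG] at h0
    rw [hb, h', bOf, W_append, W_append, W_iw F.inj hgok, ← hG, h0, mul_inv_cancel_right]

/-! ### the conclusion -/

theorem inner_of_all {β : MulAut Th} (h : FixK β) (hb : β (W [1]) = W [1]) : β ∈ Cfsg.Inn Th := by
  have hgen : ∀ g : Cfsg.Spor.Th.Gen, ∃ x < 11, letter x = PresentedGroup.of g := fun g => by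
    cases g
    exacts [⟨0, by decide, rfl⟩, ⟨1, by decide, rfl⟩, ⟨2, by decide, rfl⟩, ⟨3, by decide, rfl⟩,
      ⟨4, by decide, rfl⟩, ⟨5, by decide, rfl⟩, ⟨7, by decide, rfl⟩, ⟨9, by decide, rfl⟩]
  have he : β.toMonoidHom = MonoidHom.id Th := PresentedGroup.ext fun g => by
    cases g
    · exact (congrArg β (W_single 0).symm).trans (h.ast.a.trans (W_single 0))
    · exact (congrArg β (W_single 1).symm).trans (hb.trans (W_single 1))
    · exact (congrArg β (W_single 2).symm).trans (h.c.trans (W_single 2))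
    · exact (congrArg β (W_single 3).symm).trans (h.d.trans (W_single 3))
    · exact (congrArg β (W_single 4).symm).trans (h.e.trans (W_single 4))
    · exact (congrArg β (W_single 5).symm).trans (h.ast.s.trans (W_single 5))
    · exact (congrArg β (W_single 7).symm).trans (h.ast.t.trans (W_single 7))
    · exact (congrArg β (W_single 9).symm).trans (h.u.trans (W_single 9))
  rw [show β = 1 from MulEquiv.ext fun x => DFunLike.congr_fun he x]
  exact one_mem _

theorem inner_fixK {β : MulAut Th} (h : FixK β) : β ∈ Cfsg.Inn Th := by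
  rcases stage_b F h with hb | hb
  · exact inner_of_all F h hb
  refine of_conj F (W [0]) ?_
  have fixes : ∀ w : List ℕ, noB w = true → β (W w) = W w →
      (MulAut.conj (W [0]) * β) (W w) = W w := fun w hw e => by
    rw [conj_mul_apply, e, ← a_comm F (W_mem_Kw hw), mul_inv_cancel_right]
  refine inner_of_all F ⟨⟨fixes _ rfl h.ast.a, fixes _ rfl h.ast.s, fixes _ rfl h.ast.t⟩,
    fixes _ rfl h.c, fixes _ rfl h.d, fixes _ rfl h.e, fixes _ rfl h.u⟩ ?_
  rw [conj_mul_apply, hb, inv_of_sq (sqr F (by norm_num)),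
    show ([0, 1, 0] : List ℕ) = [0] ++ [1] ++ [0] from rfl, W_append, W_append]
  have := sqr F (x := 0) (by norm_num)
  simp only [← mul_assoc, this, one_mul]
  rw [mul_assoc, this, mul_one]

theorem inner_ast {β : MulAut Th} (h : FixAST β) : β ∈ Cfsg.Inn Th := by
  obtain ⟨t, ht, ec, ed, ee⟩ := stage_tri F h
  obtain ⟨j, hj, rfl⟩ := List.mem_iff_getElem.1 ht
  have hj8 : j < 8 := hj.trans_le (by decide +kernel)
  have hget : triS.getD j ([], [], []) = triS[j] := List.getD_eq_getElem _ _ hj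
  have hn := List.all_eq_true.1 norm_ok j (List.mem_range.2 hj8)
  simp only [normEqs, List.all_cons, List.all_nil, Bool.and_true, Bool.and_eq_true, hget] at hn
  obtain ⟨n0, n5, n7, nc, nd, ne⟩ := hn
  have hx : okW (normX.getD j ([], 0)).1 = true ∧ (normX.getD j ([], 0)).2 < 2 := by
    interval_cases j <;> decide
  refine of_conj F (W (normX.getD j ([], 0)).1) ?_
  have hfix : FixTri (MulAut.conj (W (normX.getD j ([], 0)).1) * β) (normX.getD j ([], 0)).2 :=
    ⟨⟨by rw [conj_mul_apply, h.a]; exact cjK F hx.1 n0,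
      by rw [conj_mul_apply, h.s]; exact cjK F hx.1 n5,
      by rw [conj_mul_apply, h.t]; exact cjK F hx.1 n7⟩,
     by rw [conj_mul_apply, ec]; exact cjK F hx.1 nc,
     by rw [conj_mul_apply, ed]; exact cjK F hx.1 nd,
     by rw [conj_mul_apply, ee]; exact cjK F hx.1 ne⟩
  obtain ⟨e0, eu⟩ := stage_u F hx.2 hfix
  refine inner_fixK F ⟨hfix.ast, hfix.c, ?_, ?_, eu⟩
  · rw [hfix.d, e0]; rfl
  · rw [hfix.e, e0]; rfl

theorem inner_as {β : MulAut Th} (hA : β (W [0]) = W [0]) (hs : β (W [5]) = W [5]) :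
    β ∈ Cfsg.Inn Th := by
  obtain ⟨i, hi, e⟩ := stage_t F hA hs
  have hf := List.all_eq_true.1 tFix_ok i (List.mem_range.2 hi)
  simp only [Bool.and_eq_true] at hf
  have hx : okW (sP (5 * i % 7)) = true := by interval_cases i <;> rfl
  refine of_conj F (W (sP (5 * i % 7))) (inner_ast F ⟨?_, ?_, ?_⟩)
  · rw [conj_mul_apply, hA]; exact cjK F hx hf.2
  · rw [conj_mul_apply, hs]; exact cjK F hx hf.1.2
  · rw [conj_mul_apply, e]; exact cjK F hx hf.1.1

theorem inner_a {β : MulAut Th} (hA : β (W [0]) = W [0]) : β ∈ Cfsg.Inn Th := by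
  classical
  haveI := F.fin
  haveI : Fact (Nat.Prime 7) := ⟨by norm_num⟩
  let s0 : Kw := ⟨W [5], W_mem_Kw rfl⟩
  have h7 : s0 ^ 7 = 1 := Subtype.ext (by
    show W [5] ^ 7 = 1
    have := one_of F (w := [5] ++ [5] ++ [5] ++ [5] ++ [5] ++ [5] ++ [5]) (by decide +kernel)
    rw [← this]
    simp [W, pow_succ, mul_assoc])
  have hne : s0 ≠ 1 := fun h => hnH F ne_facts.2.2.2 (congrArg Subtype.val h)
  have hord : orderOf s0 = 7 := orderOf_eq_prime h7 hne
  have hmulpl : (92897280 : ℕ).factorization 7 = 1 := by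
    exact factorization_of (p := 7) (k := 1) (m := 13271040) (by norm_num) (by norm_num) (by norm_num)
  have hS : Nat.card (zpowers s0) = 7 ^ (Nat.card Kw).factorization 7 := by
    rw [Nat.card_zpowers, hord, F.cardK, hmulpl, pow_one]
  let P7 : Sylow 7 Kw := Sylow.ofCard (zpowers s0) hS
  let s1 : Kw := ⟨β (W [5]), mem_Kw F hA (W_mem_Kw rfl)⟩
  have h7' : s1 ^ 7 = 1 := Subtype.ext (by
    show β (W [5]) ^ 7 = 1
    rw [← map_pow, show W [5] ^ 7 = 1 from congrArg Subtype.val h7, map_one])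
  have hne' : s1 ≠ 1 := fun h => hne (Subtype.ext (β.injective
    ((congrArg Subtype.val h).trans (map_one β).symm)))
  have hS' : Nat.card (zpowers s1) = 7 ^ (Nat.card Kw).factorization 7 := by
    rw [Nat.card_zpowers, orderOf_eq_prime h7' hne', F.cardK, hmulpl, pow_one]
  let Q7 : Sylow 7 Kw := Sylow.ofCard (zpowers s1) hS'
  obtain ⟨k, hk⟩ := MulAction.exists_smul_eq Kw Q7 P7
  have hmem : k * s1 * k⁻¹ ∈ zpowers s0 := by
    have : k * s1 * k⁻¹ ∈ ((k • Q7 : Sylow 7 Kw) : Subgroup Kw) := by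
      rw [Sylow.coe_subgroup_smul]
      exact Subgroup.smul_mem_pointwise_smul s1 (MulAut.conj k) (zpowers s1) (mem_zpowers s1)
    rwa [hk] at this
  rw [mem_zpowers_iff_mem_range_orderOf, hord, Finset.mem_image] at hmem
  obtain ⟨i, hi, hi'⟩ := hmem
  rw [Finset.mem_range] at hi
  have hW : W (sP i) = W [5] ^ i := by
    simp [W, sP]
  have e : (MulAut.conj (k : Th) * β) (W [5]) = W (sP i) := by
    rw [conj_mul_apply, hW]
    exact (congrArg Subtype.val hi').symm
  have hi0 : i ≠ 0 := fun h0 => hne' (by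
    subst h0
    rw [pow_zero] at hi'
    exact conj_eq_one_iff.1 hi'.symm)
  have hA1 : (MulAut.conj (k : Th) * β) (W [0]) = W [0] := by
    rw [conj_mul_apply, hA, a_comm F k.2, mul_inv_cancel_right]
  refine of_conj F (k : Th) ?_
  obtain ⟨x, hx⟩ : ∃ x, (i, x) ∈ sFix := by
    interval_cases i
    · exact absurd rfl hi0
    all_goals exact ⟨_, by simp [sFix]; rfl⟩
  have hxf := List.all_eq_true.1 sFix_ok _ hx
  simp only [Bool.and_eq_true] at hxf
  have hxok : okW x = true :=
    (show sFix.all (fun p => okW p.2) = true by decide +kernel) |> fun h =>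
      List.all_eq_true.1 h _ hx
  refine of_conj F (W x) (inner_as F ?_ ?_)
  · rw [conj_mul_apply, hA1, ← W_append, eqK F hxf.2, W_cons, ← W_single, mul_inv_cancel_right]
  · rw [conj_mul_apply, e]; exact cjK F hxok hxf.1

omit F in
theorem two_part : (90745943887872000 : ℕ).factorization 2 = 15 ∧
    (92897280 : ℕ).factorization 2 = 15 :=
  ⟨factorization_of (p := 2) (k := 15) (m := 90745943887872000 / 32768) (by norm_num) (by norm_num)
      (by norm_num),
    factorization_of (p := 2) (k := 15) (m := 2835) (by norm_num) (by norm_num) (by norm_num)⟩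

/-- every automorphism is inner -/
theorem inner (β : MulAut Th) : β ∈ Cfsg.Inn Th := by
  haveI := F.fin
  haveI : Fact (Nat.Prime 2) := ⟨Nat.prime_two⟩
  obtain ⟨P2⟩ : Nonempty (Sylow 2 Kw) := inferInstance
  let S : Subgroup Th := (P2 : Subgroup Kw).map Kw.subtype
  have hcard : Nat.card S = 2 ^ (Nat.card Th).factorization 2 := by
    rw [show Nat.card S = Nat.card (P2 : Subgroup Kw) from
      (Nat.card_congr (Subgroup.equivMapOfInjective _ _ Kw.subtype_injective).toEquiv).symm,
      P2.card_eq_multiplicity, F.cardK, F.cardG, two_part.1, two_part.2]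
  let PS : Sylow 2 Th := Sylow.ofCard S hcard
  have hcard' : Nat.card (S.map β.toMonoidHom) = 2 ^ (Nat.card Th).factorization 2 := by
    rw [← hcard]
    exact (Nat.card_congr (Subgroup.equivMapOfInjective _ _ β.injective).toEquiv).symm
  let PS' : Sylow 2 Th := Sylow.ofCard (S.map β.toMonoidHom) hcard'
  obtain ⟨g, hg⟩ := MulAction.exists_smul_eq Th PS' PS
  refine of_conj F g (inner_a F ?_)
  set γ := MulAut.conj g * β with hγ
  have hγS : ∀ x ∈ S, ∃ y ∈ S, γ y = x := fun x hx => by
    have : x ∈ ((g • PS' : Sylow 2 Th) : Subgroup Th) := by rw [hg]; exact hx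
    rw [Sylow.coe_subgroup_smul] at this
    obtain ⟨y, hy, rfl⟩ := this
    obtain ⟨z, hz, rfl⟩ := hy
    exact ⟨z, hz, rfl⟩
  have hγS' : ∀ y ∈ S, γ y ∈ S := fun y hy => by
    have : γ y ∈ ((g • PS' : Sylow 2 Th) : Subgroup Th) := by
      rw [Sylow.coe_subgroup_smul]
      exact Subgroup.smul_mem_pointwise_smul _ (MulAut.conj g) _ ⟨y, hy, rfl⟩
    rwa [hg] at this
  have hker : (phi F).ker ≤ (P2 : Subgroup Kw) := by
    refine IsPGroup.le_sylow_of_normal ?_ P2
    exact IsPGroup.of_card (n := 9) (by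
      refine le_antisymm (phi_word F).choose_spec.2.2 ?_
      exact ker_card_ge F)
  have hqS : ∀ q ∈ subs qGens, W q ∈ S := fun q hq =>
    ⟨⟨W q, W_mem_Kw (noB_q hq)⟩, hker (by rw [MonoidHom.mem_ker, phi_W F (noB_q hq), P_q hq]), rfl⟩
  have hAS : W [0] ∈ S := hqS [0] (by decide +kernel)
  have hZ : ∀ z ∈ S, (∀ x ∈ S, z * x = x * z) → z = 1 ∨ z = W [0] := fun z hz hc => by
    obtain ⟨⟨z', hz'⟩, -, rfl⟩ := hz
    exact centralizer_ker F hz' fun q hq => hc _ (hqS q hq)
  have hSK : ∀ x ∈ S, x ∈ Kw := fun x hx => by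
    obtain ⟨⟨y, hy⟩, -, rfl⟩ := hx
    exact hy
  refine (hZ _ (hγS' _ hAS) fun x hx => ?_).resolve_left fun h1 => ?_
  · obtain ⟨y, hy, rfl⟩ := hγS x hx
    rw [← map_mul, ← map_mul, a_comm F (hSK y hy)]
  · exact hnH F ne_facts.2.2.1 (γ.injective (h1.trans (map_one γ).symm))

/-- the outer automorphism group is trivial -/
theorem card_out : Nat.card (Cfsg.Out Th) = 1 := by
  rw [← Subgroup.index, Subgroup.index_eq_one, eq_top_iff]
  exact fun β _ => inner F β

end CfsgLib.ThAut52
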