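import Cfsg.Agent.ThCent69.Final
import Cfsg.Agent.ThCent69.CardK
import Cfsg.Agent.ThAut52.Main2

/-!
The data about the centraliser of `a`, from the two coset bounds.
-/

set_option autoImplicit false
set_option maxRecDepth 100000

namespace CfsgLib.ThAut52

open CfsgLib.CosetEnum CfsgLib.ThCent69 Cfsg.Spor Subgroup

/-- the letters of the representation among those of the centraliser -/
def toR : ℕ → ℕ
  | 0 | 1 => 0
  | 2 | 3 => 2
  | 4 | 5 => 3
  | 6 | 7 => 4
  | 8 => 5
  | 9 => 6
  | 10 => 7
  | 11 => 8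
  | 12 => 9
  | _ => 10

/-- and back -/
def ofR : ℕ → ℕ
  | 0 => 0
  | 2 => 2
  | 3 => 4
  | 4 => 6
  | 5 => 8
  | 6 => 9
  | 7 => 10
  | 8 => 11
  | 9 => 12
  | _ => 13

theorem letter_ofR : ∀ {i : ℕ}, i < 11 → i ≠ 1 → ThRep32.letter i = gk (ofR i) := fun {i} h h1 => by
  interval_cases i
  all_goals first | exact absurd rfl h1 | rfl

theorem gk_toR (hinj : Function.Injective ThRep32.rep) {x : ℕ} (hx : x < 14) :
    gk x = ThRep32.letter (toR x) := by
  have inv : ∀ i < 5, (ThRep32.letter i)⁻¹ = ThRep32.letter i := fun i hi => by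
    have := letter_inv hinj (x := i) (by omega)
    rw [show ThRep32.invL i = i by interval_cases i <;> rfl] at this
    exact this.symm
  interval_cases x
  · rfl
  · exact inv 0 (by norm_num)
  · rfl
  · exact inv 2 (by norm_num)
  · rfl
  · exact inv 3 (by norm_num)
  · rfl
  · exact inv 4 (by norm_num)
  all_goals rfl

theorem Kw_eq (hinj : Function.Injective ThRep32.rep) : Kw = K := by
  refine le_antisymm ((closure_le _).2 ?_) ((closure_le _).2 ?_)
  · rintro _ ⟨i, hi, h1, rfl⟩
    rw [SetLike.mem_coe, letter_ofR hi h1]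
    exact gk_mem_K (by interval_cases i <;> decide)
  · rintro _ ⟨x, hx, rfl⟩
    refine subset_closure ⟨toR x, ?_, ?_, (gk_toR hinj hx).symm⟩
    · interval_cases x <;> decide
    · interval_cases x <;> decide

theorem altVal_pv : ∀ x < 10, letterVal 10 Alt.val x = pv (toR (x + 4)) := by decide +kernel

/-- the map to the alternating group with the values on the generators -/
theorem exists_phi9 (h : Nat.card (K ⧸ Qn.subgroupOf K) = 181440) :
    ∃ ψ : (K ⧸ Qn.subgroupOf K) →* Equiv.Perm (Fin 9),
      (∀ x < 10, ψ (gq x) = letterVal 10 Alt.val x) ∧ ψ.range = alternatingGroup (Fin 9) ∧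
        Function.Injective ψ := by
  let X := K ⧸ Qn.subgroupOf K
  let gg : ℕ → X × Equiv.Perm (Fin 9) := fun x => (gq x, letterVal 10 Alt.val x)
  let M : Subgroup (X × Equiv.Perm (Fin 9)) := Subgroup.closure {a | ∃ x < 10, gg x = a}
  have hmemM : ∀ x < 10, gg x ∈ M := fun x hx => subset_closure ⟨x, hx, rfl⟩
  let gM : ℕ → M := fun x => if hx : x < 10 then ⟨gg x, hmemM x hx⟩ else 1
  have hlt10 : ∀ w ∈ PTable.words.take PTable.cert.nr, ∀ x ∈ w, x < 10 := by decide +kernel
  have hgM : Quot.RelsHold gM := by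
    refine ⟨fun x => ?_, fun w hw => ?_⟩
    · by_cases hx : x < 10
      · simp only [gM, dif_pos hx, dif_pos (Quot.xor_lt hx)]
        exact Subtype.ext (Prod.ext (relsHold.inv x) (Quot.altVal_inv x))
      · have : ¬ x ^^^ 1 < 10 := fun h' => hx (by simpa [Nat.xor_assoc] using Quot.xor_lt h')
        simp only [gM, dif_neg hx, dif_neg this, inv_one]
    · apply Subtype.ext
      have h1 := gword_map M.subtype gM w
      rw [Subgroup.coe_subtype] at h1
      rw [h1, OneMemClass.coe_one, gword_congr _ gg fun x hx => ?_]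
      · exact Prod.ext ((gword_map (MonoidHom.fst X _) gg w).trans (relsHold.rel w hw))
          ((gword_map (MonoidHom.snd X _) gg w).trans (Quot.altVal_rel w hw))
      · simp [gM, dif_pos (hlt10 w hw x hx)]
  have hgenM : closure {a | ∃ x < 10, gM x = a} = ⊤ := by
    apply Subgroup.map_injective M.subtype_injective
    rw [MonoidHom.map_closure, ← MonoidHom.range_eq_map, Subgroup.range_subtype]
    show _ = Subgroup.closure _
    congr 1
    ext a
    constructor
    · rintro ⟨_, ⟨x, hx, rfl⟩, rfl⟩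
      exact ⟨x, hx, by simp [gM, dif_pos hx]⟩
    · rintro ⟨x, hx, rfl⟩
      exact ⟨gM x, ⟨x, hx, rfl⟩, by simp [gM, dif_pos hx]⟩
  obtain ⟨hfin, hcard⟩ := Quot.card_le hgM hgenM
  let pK : M →* X := (MonoidHom.fst _ _).comp M.subtype
  let pA : M →* Equiv.Perm (Fin 9) := (MonoidHom.snd _ _).comp M.subtype
  have hK : Function.Surjective pK := by
    rw [← MonoidHom.range_eq_top, ← top_le_iff, ← gq_gen, closure_le]
    rintro a ⟨x, hx, rfl⟩
    exact ⟨⟨gg x, hmemM x hx⟩, rfl⟩
  have hbK : Function.Bijective pK := (Nat.bijective_iff_surjective_and_card pK).2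
    ⟨hK, le_antisymm (hcard.trans h.ge) (Nat.card_le_card_of_surjective pK hK)⟩
  let e : M ≃* X := MulEquiv.ofBijective pK hbK
  have hrange : pA.range = alternatingGroup (Fin 9) := by
    rw [← Quot.closure_altVal, MonoidHom.range_comp, Subgroup.range_subtype, MonoidHom.map_closure]
    congr 1
    ext a
    constructor
    · rintro ⟨_, ⟨x, hx, rfl⟩, rfl⟩
      exact ⟨x, hx, rfl⟩
    · rintro ⟨x, hx, rfl⟩
      exact ⟨gg x, ⟨x, hx, rfl⟩, rfl⟩
  have hinjA : Function.Injective pA := by
    have hA : Nat.card pA.range = 181440 := by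
      rw [hrange, nat_card_alternatingGroup, Nat.card_fin]
      decide
    have hb : Function.Bijective pA.rangeRestrict := (Nat.bijective_iff_surjective_and_card _).2
      ⟨pA.rangeRestrict_surjective, le_antisymm (hcard.trans hA.ge)
        (Nat.card_le_card_of_surjective _ pA.rangeRestrict_surjective)⟩
    exact fun a b hab => hb.1 (Subtype.ext hab)
  refine ⟨pA.comp e.symm.toMonoidHom, fun x hx => ?_, ?_, hinjA.comp e.symm.injective⟩
  · have : e ⟨gg x, hmemM x hx⟩ = gq x := rfl
    show pA (e.symm (gq x)) = _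
    rw [← this, MulEquiv.symm_apply_apply]
    rfl
  · rw [← hrange]
    ext a
    exact ⟨fun ⟨y, hy⟩ => ⟨e.symm y, hy⟩, fun ⟨y, hy⟩ => ⟨e y, by simpa using hy⟩⟩

/-- equal words without u act alike on the 819 points -/
theorem perm_fact (_hH : Nat.card Th34.H = 634023936) (ψ : Th34.H →* Equiv.Perm (Fin 819))
    (hψ : ∀ x < 14, ψ (hs x) = Model.sg x) : PermFact := by
  intro u v hu hv he
  have hlt : ∀ {w : List ℕ}, okH w = true → ∀ x ∈ w.map toMl, x < 14 := fun {w} hw x hx => by
    obtain ⟨y, hy, rfl⟩ := List.mem_map.1 hx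
    have hy9 : y < 9 := Nat.le_of_ble_eq_true (List.all_eq_true.1 hw y hy)
    interval_cases y <;> decide
  have hW : ∀ {w : List ℕ}, okH w = true → gword gl (w.map toMl) = W w := fun {w} hw => by
    rw [gword, List.map_map, W]
    refine congrArg List.prod (List.map_congr_left fun y hy => ?_)
    have hy9 : y < 9 := Nat.le_of_ble_eq_true (List.all_eq_true.1 hw y hy)
    interval_cases y <;> rfl
  have key : ∀ {w : List ℕ}, okH w = true →
      Model.pw (w.map toMl) = ψ (gword hs (w.map toMl)) := fun {w} hw => by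
    rw [gword_map, Model.pw_def]
    exact gword_congr _ _ fun x hx => (hψ x (hlt hw x hx)).symm
  have hpw : Model.pw (u.map toMl) = Model.pw (v.map toMl) := by
    rw [key hu, key hv]
    refine congrArg ψ (Subtype.ext ?_)
    rw [coe_gword_hs (hlt hu), coe_gword_hs (hlt hv), hW hu, hW hv, he]
  refine List.map_congr_left fun p hp => ?_
  have hp' : p < 819 := by
    simp only [List.mem_cons, List.not_mem_nil, or_false] at hp
    rcases hp with rfl | rfl | rfl | rfl <;> norm_num
  exact (Model.runT_eq _ (hlt hu) ⟨p, hp'⟩).trans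
    (hpw ▸ (Model.runT_eq _ (hlt hv) ⟨p, hp'⟩).symm)

/-- everything that is used about the centraliser -/
theorem facts (hTh : Cfsg.IsTh Th) (hidx : Th34.H.index = 143127000) : Facts := by
  have hfin : Finite Th := Nat.finite_of_card_ne_zero (by rw [hTh.2]; norm_num)
  have hinj : Function.Injective ThRep32.rep := by
    haveI := hTh.1
    rcases Subgroup.Normal.eq_bot_or_eq_top (inferInstance : ThRep32.rep.ker.Normal) with hk | hk
    · exact (MonoidHom.ker_eq_bot_iff _).1 hk
    · exact absurd (MonoidHom.ker_eq_top_iff.1 hk) ThRep32.rep_ne_one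
  obtain ⟨ψ, hψ⟩ := exists_psi boundHyp card_H_eq
  have hH := card_H_eq
  obtain ⟨hC, hK, hQ, -⟩ := kfacts_of_isTh hTh hidx
  have hX : Nat.card (K ⧸ Qn.subgroupOf K) = 181440 := by
    have := card_eq_card_quotient_mul_card_subgroup (Qn.subgroupOf K)
    rw [Nat.card_congr (subgroupOfEquivOfLe Qn_le_K).toEquiv, hQ, hK] at this
    omega
  have hKK := Kw_eq hinj
  obtain ⟨χ, hχ, hr, hi⟩ := exists_phi9 hX
  let φ : Kw →* P9 := (χ.comp (QuotientGroup.mk' (Qn.subgroupOf K))).comp
    (MulEquiv.subgroupCongr hKK).toMonoidHom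
  refine ⟨hinj, perm_fact hH ψ hψ, hfin, hTh.2, ?_, hKK ▸ hK, φ, ?_, ?_, ?_⟩
  · rw [hKK, ← hC]
    congr 2
  · rintro ⟨_, hm⟩ i hi' h1 rfl
    have hx : ofR i < 14 := by interval_cases i <;> decide
    show χ (QuotientGroup.mk' _ ⟨ThRep32.letter i, _⟩) = pv i
    by_cases h4 : 4 ≤ ofR i
    · have e : QuotientGroup.mk' (Qn.subgroupOf K) ⟨ThRep32.letter i, hKK ▸ hm⟩ = gq (ofR i - 4) := by
        rw [gq, letterVal, if_pos (by omega), dif_pos (by omega)]
        exact congrArg _ (Subtype.ext ((letter_ofR hi' h1).trans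
          (congrArg gk (Nat.sub_add_cancel h4).symm)))
      refine (congrArg χ e).trans ((hχ _ (by omega)).trans ((altVal_pv _ (by omega)).trans ?_))
      rw [Nat.sub_add_cancel h4]
      congr 1
      interval_cases i <;> first | rfl | exact absurd rfl h1 | (exfalso; revert h4; decide)
    · have hq : (ThRep32.letter i : Th) ∈ Qn := by
        rw [letter_ofR hi' h1]
        have hc : gk 2 ∈ Qn := subset_closure ⟨1, one_mem _, by simp⟩
        interval_cases i <;> first
          | exact a_mem_Qn | exact hc | exact absurd rfl h1 | exact absurd h4 (by decide)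
      rw [show QuotientGroup.mk' (Qn.subgroupOf K) ⟨ThRep32.letter i, hKK ▸ hm⟩ = 1 from
        (QuotientGroup.eq_one_iff _).2 (mem_subgroupOf.2 hq), map_one]
      interval_cases i <;> first | rfl | exact absurd rfl h1 | (exfalso; revert h4; decide)
  · rw [← hr]
    ext a
    constructor
    · rintro ⟨y, rfl⟩; exact ⟨_, rfl⟩
    · rintro ⟨y, rfl⟩
      obtain ⟨z, rfl⟩ := QuotientGroup.mk'_surjective (Qn.subgroupOf K) y
      exact ⟨(MulEquiv.subgroupCongr hKK).symm z, by simp [φ]⟩
  · have hk : Nat.card φ.ker * 181440 = 92897280 := by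
      have := φ.ker.card_mul_index
      rwa [Subgroup.index_ker, show Nat.card φ.range = 181440 from ?_, show Nat.card Kw = 92897280 from hKK ▸ hK] at this
      rw [show φ.range = χ.range from ?_, hr, nat_card_alternatingGroup, Nat.card_fin]
      · decide
      ext a
      constructor
      · rintro ⟨y, rfl⟩; exact ⟨_, rfl⟩
      · rintro ⟨y, rfl⟩
        obtain ⟨z, rfl⟩ := QuotientGroup.mk'_surjective (Qn.subgroupOf K) y
        exact ⟨(MulEquiv.subgroupCongr hKK).symm z, by simp [φ]⟩
    omega

/-- the outer automorphism group of the presented group -/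
theorem card_out_of (hTh : Cfsg.IsTh Th) (hidx : Th34.H.index = 143127000) :
    Nat.card (Cfsg.Out Th) = 1 :=
  card_out (facts hTh hidx)

end CfsgLib.ThAut52
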