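import Cfsg.Agent.ThAut52.Word
import Cfsg.Agent.ThCent69.Model.Group

/-!
Checks that all but listed words violate given equations: on a few of the 819 points for words
without u, on one packed vector otherwise.
-/

set_option autoImplicit false
set_option maxRecDepth 100000

namespace CfsgLib.ThAut52

open CfsgLib.ThRep32 CfsgLib.CosetEnum CfsgLib.ThCent69

/-- the letters of the model on 819 points -/
def toMl (x : ℕ) : ℕ := [0, 2, 4, 6, 8, 10, 11, 12, 13].getD x 0

/-- no letter is u -/
def okH (w : List ℕ) : Bool := w.all fun x => Nat.blt x 9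

/-- images of some points -/
noncomputable def runH (w : List ℕ) : List ℕ :=
  [243, 1, 100, 500].map (runT Model.TF 14 (w.map toMl))

/-- told apart on the points -/
noncomputable def neqH (u v : List ℕ) : Bool := okH u && okH v && !(runH u == runH v)

/-- equal elements without u act alike on the 819 points -/
def PermFact : Prop :=
  ∀ u v : List ℕ, okH u = true → okH v = true → W u = W v → runH u = runH v

theorem ne_of_neqH (hP : PermFact) {u v : List ℕ} (h : neqH u v = true) : W u ≠ W v := fun e => by
  simp only [neqH, Bool.and_eq_true] at h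
  have := hP u v h.1.1 h.1.2 e
  simp [this] at h

theorem ne_of_neqR {v0 : ℕ × ℕ} (hv : goodB v0 = true) {u v : List ℕ}
    (h : (okW u && okW v && diff (run u v0) (run v v0)) = true) : W u ≠ W v := fun e => by
  simp only [Bool.and_eq_true] at h
  rw [diff_eq_false hv h.1.1 h.1.2 e] at h
  exact Bool.false_ne_true h.2

/-- every candidate outside `surv` fails one of its equations -/
def listOK {α : Type} [DecidableEq α] (neq : List ℕ → List ℕ → Bool) (cands : List α)
    (eqs : α → List (List ℕ × List ℕ)) (surv : List α) : Bool :=
  cands.all fun x => surv.elem x || (eqs x).any fun p => neq p.1 p.2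

theorem mem_of_listOK {α : Type} [DecidableEq α] {neq : List ℕ → List ℕ → Bool}
    (hn : ∀ {u v}, neq u v = true → W u ≠ W v) {cands : List α}
    {eqs : α → List (List ℕ × List ℕ)} {surv : List α} (h : listOK neq cands eqs surv = true)
    {x : α} (hx : x ∈ cands) (he : ∀ p ∈ eqs x, W p.1 = W p.2) : x ∈ surv := by
  have hm := List.all_eq_true.1 h x hx
  rw [Bool.or_eq_true] at hm
  refine hm.elim (fun h' => by simpa using h') fun h' => ?_
  obtain ⟨p, hp, hp'⟩ := List.any_eq_true.1 h'
  exact absurd (he p hp) (hn hp')

/-- the products of all sublists -/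
def subs : List (List ℕ) → List (List ℕ)
  | [] => [[]]
  | g :: gs => subs gs ++ (subs gs).map (g ++ ·)

/-- the products of all sublists, along with those of the images -/
def subsP : List (List ℕ × List ℕ) → List (List ℕ × List ℕ)
  | [] => [([], [])]
  | g :: gs => subsP gs ++ (subsP gs).map fun p => (g.1 ++ p.1, g.2 ++ p.2)

theorem exists_subsP : ∀ {gs : List (List ℕ × List ℕ)} {q : List ℕ}, q ∈ subs (gs.map (·.1)) →
    ∃ q', (q, q') ∈ subsP gs
  | [], q, h => by
    rw [List.map_nil, subs, List.mem_singleton] at h
    exact ⟨[], by simp [subsP, h]⟩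
  | g :: gs, q, h => by
    rw [List.map_cons, subs, List.mem_append] at h
    rcases h with h | h
    · obtain ⟨q', hq⟩ := exists_subsP h
      exact ⟨q', by rw [subsP]; exact List.mem_append.2 (Or.inl hq)⟩
    · obtain ⟨r, hr, rfl⟩ := List.mem_map.1 h
      obtain ⟨r', hr'⟩ := exists_subsP hr
      exact ⟨g.2 ++ r', by
        rw [subsP]; exact List.mem_append.2 (Or.inr (List.mem_map.2 ⟨_, hr', rfl⟩))⟩

theorem subsP_conj {w : List ℕ} : ∀ {gs : List (List ℕ × List ℕ)} {p : List ℕ × List ℕ},
    (∀ g ∈ gs, W w * W g.1 = W g.2 * W w) → p ∈ subsP gs → W w * W p.1 = W p.2 * W w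
  | [], p, _, hp => by
    rw [subsP, List.mem_singleton] at hp
    subst hp
    simp [W]
  | g :: gs, p, hg, hp => by
    rw [subsP, List.mem_append] at hp
    have ih := fun {r} (hr : r ∈ subsP gs) =>
      subsP_conj (fun x hx => hg x (List.mem_cons_of_mem _ hx)) hr
    rcases hp with hp | hp
    · exact ih hp
    · obtain ⟨r, hr, rfl⟩ := List.mem_map.1 hp
      rw [W_append, W_append, ← mul_assoc, hg g List.mem_cons_self, mul_assoc, ih hr, mul_assoc]

/-- the products of sublists act differently -/
def nodupN : List ℕ → Bool
  | [] => true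
  | x :: l => l.all (fun y => !(Nat.beq x y)) && nodupN l

/-- the images of the points as one number -/
noncomputable def codeH (w : List ℕ) : ℕ := (runH w).foldl (fun r p => r * 1024 + p) 0

/-- the products of sublists are pairwise different as elements -/
noncomputable def distinctOK (gs : List (List ℕ)) : Bool :=
  (subs gs).all okH && nodupN ((subs gs).map codeH)

theorem nodupN_sound : ∀ {l : List ℕ}, nodupN l = true → l.Nodup
  | [], _ => List.nodup_nil
  | x :: l, h => by
    rw [nodupN, Bool.and_eq_true] at h
    refine List.nodup_cons.2 ⟨fun hm => ?_, nodupN_sound h.2⟩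
    simpa using List.all_eq_true.1 h.1 x hm

theorem nodup_subs (hP : PermFact) {gs : List (List ℕ)} (h : distinctOK gs = true) :
    ((subs gs).map W).Nodup := by
  rw [distinctOK, Bool.and_eq_true] at h
  have hn := nodupN_sound h.2
  refine List.Nodup.map_on (fun u hu v hv e => ?_) hn.of_map
  have : codeH u = codeH v := by
    rw [codeH, codeH, hP u v (List.all_eq_true.1 h.1 u hu) (List.all_eq_true.1 h.1 v hv) e]
  exact List.inj_on_of_nodup_map hn hu hv this

theorem okW_append {u v : List ℕ} : okW (u ++ v) = (okW u && okW v) := List.all_append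

end CfsgLib.ThAut52
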