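import Cfsg.Agent.ThAut52.Defs

/-! Kernel checks: the first two relations of the image of b. -/

set_option autoImplicit false
set_option maxRecDepth 100000
set_option Elab.async false

namespace CfsgLib.ThAut52

theorem bOK1a : listOK neqR (bC.take 8) bEq1 bS1 = true := by decide +kernel

theorem bOK1b : listOK neqR ((bC.drop 8).take 8) bEq1 bS1 = true := by decide +kernel

theorem bOK1c : listOK neqR (bC.drop 16) bEq1 bS1 = true := by decide +kernel

end CfsgLib.ThAut52
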