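import Cfsg.Agent.ThAut52.Defs

/-! Kernel checks: the last two relations of the image of b. -/

set_option autoImplicit false
set_option maxRecDepth 100000
set_option Elab.async false

namespace CfsgLib.ThAut52

theorem bOK2a : listOK neqR (bS1.take 4) bEq2 bS2 = true := by decide +kernel

theorem bOK2b : listOK neqR (bS1.drop 4) bEq2 bS2 = true := by decide +kernel

theorem bOK3 : listOK neqR bS2 bEq3 bS = true := by decide +kernel

end CfsgLib.ThAut52
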