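import Cfsg.Agent.ThAut52.Defs

/-! Kernel checks: the images of e and u. -/

set_option autoImplicit false
set_option maxRecDepth 100000
set_option Elab.async false

namespace CfsgLib.ThAut52

theorem eOK0 : listOK neqR (eC.take 8) eEq eS = true := by decide +kernel

theorem eOK1 : listOK neqR (eC.drop 8) eEq eS = true := by decide +kernel

theorem uOK : listOK neqR (uC 0) (uEq [3] [4]) [[9]] = true := by decide +kernel

theorem uOK' : listOK neqR (uC 1) (uEq (nrmDE 1).1 (nrmDE 1).2) [] = true := by decide +kernel

end CfsgLib.ThAut52
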