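import Cfsg.Agent.ThAut52.Defs

/-! Kernel checks: the conjugating word. -/

set_option autoImplicit false
set_option maxRecDepth 100000
set_option Elab.async false

namespace CfsgLib.ThAut52

theorem gW_ok1 : eqOK (gW ++ [0], 4 :: gW) = true := by decide +kernel

theorem gW_ok2 : eqOK (gW ++ [7], 7 :: gW) = true := by decide +kernel

end CfsgLib.ThAut52
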