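import Cfsg.Agent.ThAut52.Defs

/-! Kernel checks: conjugates by the word. -/

set_option autoImplicit false
set_option maxRecDepth 100000
set_option Elab.async false

namespace CfsgLib.ThAut52

theorem eps_ok : eqOK (gW ++ epsW, [6, 4, 5] ++ gW) = true := by decide +kernel

theorem gA_ok : eqOK (gW ++ [4, 0], 0 :: gW) = true := by decide +kernel

end CfsgLib.ThAut52
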