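import Cfsg.Agent.ThAut52.Defs

/-! Kernel checks: the equalities that are used, and a few inequalities. -/

set_option autoImplicit false
set_option maxRecDepth 100000

namespace CfsgLib.ThAut52

open CfsgLib.ThRep32

/-- conjugators taking powers of s to s -/
def sFix : List (ℕ × List ℕ) := [(1, []), (2, [7]), (3, [3, 8]), (4, [8]), (5, [3, 7]), (6, [3])]

/-- normalising conjugators, one for each candidate triple, and the index of the result -/
def normX : List (List ℕ × ℕ) :=
  [([], 0), ([2], 0), ([], 1), ([2], 1), ([2, 3, 2, 3], 1), ([3, 2, 3], 1), ([2, 3, 2, 3], 0),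
   ([3, 2, 3], 0)]

/-- the equations of the normalisation -/
def normEqs (j : ℕ) : List (List ℕ × List ℕ) :=
  let t := triS.getD j ([], [], [])
  let x := normX.getD j ([], 0)
  [(cjW x.1 [0], [0]), (cjW x.1 [5], [5]), (cjW x.1 [7], [7]), (cjW x.1 t.1, [2]),
   (cjW x.1 t.2.1, (nrmDE x.2).1), (cjW x.1 t.2.2, (nrmDE x.2).2)]

theorem sFix_ok : sFix.all (fun p =>
    eqKOK (cjW p.2 (sP p.1), [5]) && eqKOK (p.2 ++ [0], 0 :: p.2)) = true := by decide +kernel

theorem tFix_ok : (List.range 7).all (fun i =>
    eqKOK (cjW (sP (5 * i % 7)) (sP i ++ [7]), [7]) &&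
      eqKOK (cjW (sP (5 * i % 7)) [5], [5]) && eqKOK (cjW (sP (5 * i % 7)) [0], [0])) = true := by
  decide +kernel

theorem ne_facts : neqH [2] [] = true ∧ neqH [2] [0] = true ∧ neqH [0] [] = true ∧
    neqH [5] [] = true := by
  decide +kernel

theorem norm_ok : (List.range 8).all (fun j => (normEqs j).all eqKOK) = true := by decide +kernel

end CfsgLib.ThAut52
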