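import Cfsg.Agent.ThAut52.Defs

/-! Kernel checks: the lifts. -/

set_option autoImplicit false
set_option maxRecDepth 100000

namespace CfsgLib.ThAut52

theorem lift_ok : (List.range 5).all (fun k => eqKOK (liftW k ++ liftW k, (lift k).2.2) &&
    (qT5.zip (lift k).2.1).all fun g => eqKOK (liftW k ++ g.1, g.2 ++ liftW k)) = true := by
  decide +kernel

theorem liftT_ok : eqKOK (7 :: liftW 0, liftW 0 ++ [7]) = true ∧
    eqKOK (7 :: liftW 1, liftW 1 ++ [8]) = true ∧ eqKOK (7 :: liftW 2, liftW 2 ++ [8]) = true ∧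
    eqKOK (7 :: liftW 3, liftW 3 ++ [7]) = true ∧ eqKOK (7 :: liftW 4, liftW 4 ++ [7]) = true ∧
    eqKOK (2 :: liftW 1, liftW 1 ++ [2]) = true ∧ eqKOK (2 :: liftW 2, liftW 2 ++ [2]) = true ∧
    eqKOK (7 :: [4], [4] ++ [7]) = true := by
  decide +kernel

theorem etU_ok : (List.range 2).all (fun n => (List.range 2).all fun k =>
    eqKOK ((nrmDE n).2 ++ liftW (k + 1), liftW (k + 1) ++ etW n k)) = true := by
  decide +kernel

theorem six_ok : sixW.all (fun w => eqKOK (epsW ++ w.1, w.1 ++ w.2) &&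
    eqKOK (7 :: w.1, w.1 ++ [7])) = true := by
  decide +kernel

end CfsgLib.ThAut52
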