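import Cfsg.Agent.ThAut52.Defs

/-! Kernel checks: the words without u. -/

set_option autoImplicit false
set_option maxRecDepth 100000

namespace CfsgLib.ThAut52

theorem distinct : distinctOK qGens = true := by decide +kernel

theorem classOK : listOK neqH (subs qGens) classEq [] = true := by decide +kernel

theorem zOK : listOK neqH (subs qGens) zEq [[], [0]] = true := by decide +kernel

theorem cqOK : listOK neqH (subs qGens) (commEq [5]) cqS = true := by decide +kernel

theorem ctOK : listOK neqH (subs qGens) (commEq [7]) (subs qT5) = true := by decide +kernel

theorem tOK : listOK neqH tC tEq tS = true := by decide +kernel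

theorem cOK : listOK neqH csC cEq cS = true := by decide +kernel

theorem dOK : listOK neqH dC cEq dS = true := by decide +kernel

theorem e0OK : listOK neqH (subs qT5) sq0Eq qE0 = true := by decide +kernel

theorem e1OK : listOK neqH (liftP 0) (sqEq 0) qE1 = true := by decide +kernel

theorem triOK : listOK neqH triC triEq triS = true := by decide +kernel

theorem uSufOK : (List.range 2).all (fun n => (List.range 2).all fun k =>
    listOK neqH (liftP (k + 1)) (uSufEq n k) (qU n k)) = true := by decide +kernel

theorem sixOK : sixW.all (fun w => listOK neqH (subs qT5) (sixEq w) []) = true := by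
  decide +kernel

theorem b1sqOK : listOK neqH (liftP 3) (sqEq 3) qB1 = true := by decide +kernel

theorem b2sqOK : listOK neqH (liftP 4) (sqEq 4) qB2 = true := by decide +kernel

theorem b0sqOK : listOK neqH (subs qT5) sq0Eq qB0 = true := by decide +kernel

end CfsgLib.ThAut52
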