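import Cfsg.Agent.ThAut52.Defs

/-! Kernel checks: the relators with b. -/

set_option autoImplicit false
set_option maxRecDepth 100000

namespace CfsgLib.ThAut52

theorem rel_b : ThRep32.relWord 5 = [0, 1, 0, 1, 0, 1] ∧ ThRep32.relWord 7 = [1, 2, 1, 2, 1, 2] ∧
    ThRep32.relWord 8 = [1, 3, 1, 3] ∧ ThRep32.relWord 9 = [1, 4, 1, 4] ∧
    ThRep32.relWord 16 = [6, 1, 5, 1] ∧ ThRep32.relWord 22 = [8, 1, 7, 1] := by
  decide +kernel

end CfsgLib.ThAut52
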