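import Cfsg.Agent.ThAut52.Defs

/-! Kernel checks: the survivors for b. -/

set_option autoImplicit false
set_option maxRecDepth 100000
set_option Elab.async false

namespace CfsgLib.ThAut52

theorem bS_ok1 : eqOK (gW ++ bS.getD 0 [], [0, 1, 0] ++ gW) = true := by decide +kernel

theorem bS_ok2 : eqOK (gW ++ bS.getD 1 [], 1 :: gW) = true := by decide +kernel

end CfsgLib.ThAut52
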