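import Cfsg.Agent.ThAut52.Defs

/-! Kernel checks: only the trivial product fixes the vector. -/

set_option autoImplicit false
set_option maxRecDepth 100000

namespace CfsgLib.ThAut52

theorem fixFree : (subs (qGens.take 4)).all (fun a => (subs (qGens.drop 4)).all fun b =>
    diff (run a v0) (run (iw b) v0) || (a == [] && b == [])) = true := by decide +kernel

end CfsgLib.ThAut52
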