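import Cfsg.Agent.ThAut52.Check

/-!
Generated: generators of the normal 2-subgroup of the involution centraliser, candidate words,
one fixed vector.
-/

set_option autoImplicit false
set_option maxRecDepth 100000

namespace CfsgLib.ThAut52

/-- the fixed vector -/
def v0 : ℕ × ℕ :=
  (77752527366840048779902779070179601225976051977998304582988110669933494797,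
  29581046615961789811762794718261645186608009250869772993509970498415234354)

/-- words whose products of sublists are the normal 2-subgroup; the first five commute with t -/
def qGens : List (List ℕ) :=
  [[0], [2], [3, 2, 3], [4, 3, 2, 3, 4], [6, 4, 3, 2, 3, 4, 5, 6, 6, 4, 3, 2, 3, 4, 5, 5, 7, 6, 4,
  3, 2, 3, 4, 5, 8], [6, 4, 3, 2, 3, 4, 5], [5, 4, 3, 2, 3, 4, 6], [4, 6, 4, 3, 2, 3, 4, 5, 4],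
  [6, 6, 4, 3, 2, 3, 4, 5, 5]]

/-- the products commuting with s -/
def cqS : List (List ℕ) :=
  [[], [3, 2, 3], [2], [2, 3, 2, 3], [0], [0, 3, 2, 3], [0, 2], [0, 2, 3, 2, 3]]

/-- candidates for the image of c -/
def cS : List (List ℕ) :=
  [[], [3, 2, 3], [2], [0], [0, 3, 2, 3], [0, 2]]

/-- candidates for the image of d -/
def dS : List (List ℕ) :=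
  [[3], [2, 3, 2, 3, 3], [0, 3], [0, 2, 3, 2, 3, 3]]

/-- suffixes after e giving involutions -/
def qE0 : List (List ℕ) :=
  [[], [3, 2, 3, 4, 3, 2, 3, 4], [2], [2, 3, 2, 3, 4, 3, 2, 3, 4], [0], [0, 3, 2, 3, 4, 3, 2, 3,
  4], [0, 2], [0, 2, 3, 2, 3, 4, 3, 2, 3, 4]]

/-- suffixes after the second lift of e giving involutions -/
def qE1 : List (List ℕ × List ℕ) :=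
  [([3, 2, 3], [0, 3, 2, 3, 4, 3, 2, 3, 4, 6, 4, 3, 2, 3, 4, 5, 6, 6, 4, 3, 2, 3, 4, 5, 5, 7, 6,
  4, 3, 2, 3, 4, 5, 8]), ([3, 2, 3, 4, 3, 2, 3, 4, 6, 4, 3, 2, 3, 4, 5, 6, 6, 4, 3, 2, 3, 4, 5, 5,
  7, 6, 4, 3, 2, 3, 4, 5, 8], [0, 3, 2, 3, 4, 3, 2, 3, 4, 6, 4, 3, 2, 3, 4, 5, 6, 6, 4, 3, 2, 3,
  4, 5, 5, 7, 6, 4, 3, 2, 3, 4, 5, 8, 0, 2, 3, 2, 3, 6, 4, 3, 2, 3, 4, 5, 6, 6, 4, 3, 2, 3, 4, 5,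
  5, 7, 6, 4, 3, 2, 3, 4, 5, 8, 0, 2, 3, 2, 3, 4, 3, 2, 3, 4]), ([2], [0, 2, 4, 3, 2, 3, 4, 6, 4,
  3, 2, 3, 4, 5, 6, 6, 4, 3, 2, 3, 4, 5, 5, 7, 6, 4, 3, 2, 3, 4, 5, 8]), ([2, 4, 3, 2, 3, 4, 6, 4,
  3, 2, 3, 4, 5, 6, 6, 4, 3, 2, 3, 4, 5, 5, 7, 6, 4, 3, 2, 3, 4, 5, 8], [0, 2, 4, 3, 2, 3, 4, 6,
  4, 3, 2, 3, 4, 5, 6, 6, 4, 3, 2, 3, 4, 5, 5, 7, 6, 4, 3, 2, 3, 4, 5, 8, 0, 2, 3, 2, 3, 6, 4, 3,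
  2, 3, 4, 5, 6, 6, 4, 3, 2, 3, 4, 5, 5, 7, 6, 4, 3, 2, 3, 4, 5, 8, 0, 2, 3, 2, 3, 4, 3, 2, 3,
  4]), ([0, 3, 2, 3], [0, 0, 3, 2, 3, 4, 3, 2, 3, 4, 6, 4, 3, 2, 3, 4, 5, 6, 6, 4, 3, 2, 3, 4, 5,
  5, 7, 6, 4, 3, 2, 3, 4, 5, 8]), ([0, 3, 2, 3, 4, 3, 2, 3, 4, 6, 4, 3, 2, 3, 4, 5, 6, 6, 4, 3, 2,
  3, 4, 5, 5, 7, 6, 4, 3, 2, 3, 4, 5, 8], [0, 0, 3, 2, 3, 4, 3, 2, 3, 4, 6, 4, 3, 2, 3, 4, 5, 6,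
  6, 4, 3, 2, 3, 4, 5, 5, 7, 6, 4, 3, 2, 3, 4, 5, 8, 0, 2, 3, 2, 3, 6, 4, 3, 2, 3, 4, 5, 6, 6, 4,
  3, 2, 3, 4, 5, 5, 7, 6, 4, 3, 2, 3, 4, 5, 8, 0, 2, 3, 2, 3, 4, 3, 2, 3, 4]), ([0, 2], [0, 0, 2,
  4, 3, 2, 3, 4, 6, 4, 3, 2, 3, 4, 5, 6, 6, 4, 3, 2, 3, 4, 5, 5, 7, 6, 4, 3, 2, 3, 4, 5, 8]), ([0,
  2, 4, 3, 2, 3, 4, 6, 4, 3, 2, 3, 4, 5, 6, 6, 4, 3, 2, 3, 4, 5, 5, 7, 6, 4, 3, 2, 3, 4, 5, 8],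
  [0, 0, 2, 4, 3, 2, 3, 4, 6, 4, 3, 2, 3, 4, 5, 6, 6, 4, 3, 2, 3, 4, 5, 5, 7, 6, 4, 3, 2, 3, 4, 5,
  8, 0, 2, 3, 2, 3, 6, 4, 3, 2, 3, 4, 5, 6, 6, 4, 3, 2, 3, 4, 5, 5, 7, 6, 4, 3, 2, 3, 4, 5, 8, 0,
  2, 3, 2, 3, 4, 3, 2, 3, 4])]

/-- candidates for the image of e -/
def eS : List (List ℕ) :=
  [[4], [4, 0, 3, 2, 3, 4, 3, 2, 3, 4]]

/-- candidates for the images of c, d, e -/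
def triS : List (List ℕ × List ℕ × List ℕ) := [
  ([2], [3], [4]),
  ([2], [2, 3, 2, 3, 3], [4]),
  ([2], [0, 3], [4, 0, 3, 2, 3, 4, 3, 2, 3, 4]),
  ([2], [0, 2, 3, 2, 3, 3], [4, 0, 3, 2, 3, 4, 3, 2, 3, 4]),
  ([0, 2], [3], [4]),
  ([0, 2], [2, 3, 2, 3, 3], [4]),
  ([0, 2], [0, 3], [4, 0, 3, 2, 3, 4, 3, 2, 3, 4]),
  ([0, 2], [0, 2, 3, 2, 3, 3], [4, 0, 3, 2, 3, 4, 3, 2, 3, 4])]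

/-- lifts with their conjugation action on the first five generators and their squares -/
def cjLifts : List (List ℕ × List (List ℕ) × List ℕ) :=
  [([3, 4, 9, 3, 9], [[0], [0, 2, 4, 3, 2, 3, 4, 6, 4, 3, 2, 3, 4, 5, 6, 6, 4, 3, 2, 3, 4, 5, 5,
  7, 6, 4, 3, 2, 3, 4, 5, 8], [0, 3, 2, 3, 4, 3, 2, 3, 4, 6, 4, 3, 2, 3, 4, 5, 6, 6, 4, 3, 2, 3,
  4, 5, 5, 7, 6, 4, 3, 2, 3, 4, 5, 8], [0, 2, 3, 2, 3, 6, 4, 3, 2, 3, 4, 5, 6, 6, 4, 3, 2, 3, 4,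
  5, 5, 7, 6, 4, 3, 2, 3, 4, 5, 8], [0, 2, 3, 2, 3, 4, 3, 2, 3, 4]], [0, 4, 3, 2, 3, 4, 6, 4, 3,
  2, 3, 4, 5, 6, 6, 4, 3, 2, 3, 4, 5, 5, 7, 6, 4, 3, 2, 3, 4, 5, 8]), ([9], [[0], [2], [3, 2, 3,
  4, 3, 2, 3, 4, 6, 4, 3, 2, 3, 4, 5, 6, 6, 4, 3, 2, 3, 4, 5, 5, 7, 6, 4, 3, 2, 3, 4, 5, 8], [0,
  2, 6, 4, 3, 2, 3, 4, 5, 6, 6, 4, 3, 2, 3, 4, 5, 5, 7, 6, 4, 3, 2, 3, 4, 5, 8], [2, 4, 3, 2, 3,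
  4]], [0, 2]), ([4, 9], [[0], [2], [0, 2, 6, 4, 3, 2, 3, 4, 5, 6, 6, 4, 3, 2, 3, 4, 5, 5, 7, 6,
  4, 3, 2, 3, 4, 5, 8], [3, 2, 3, 4, 3, 2, 3, 4, 6, 4, 3, 2, 3, 4, 5, 6, 6, 4, 3, 2, 3, 4, 5, 5,
  7, 6, 4, 3, 2, 3, 4, 5, 8], [2, 3, 2, 3]], [0, 2]), ([4, 3, 9, 3, 9], [[0], [2, 3, 2, 3, 6, 4,
  3, 2, 3, 4, 5, 6, 6, 4, 3, 2, 3, 4, 5, 5, 7, 6, 4, 3, 2, 3, 4, 5, 8], [2, 4, 3, 2, 3, 4, 6, 4,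
  3, 2, 3, 4, 5, 6, 6, 4, 3, 2, 3, 4, 5, 5, 7, 6, 4, 3, 2, 3, 4, 5, 8], [0, 3, 2, 3, 4, 3, 2, 3,
  4, 6, 4, 3, 2, 3, 4, 5, 6, 6, 4, 3, 2, 3, 4, 5, 5, 7, 6, 4, 3, 2, 3, 4, 5, 8], [0, 2, 3, 2, 3,
  4, 3, 2, 3, 4]], [3, 2, 3, 6, 4, 3, 2, 3, 4, 5, 6, 6, 4, 3, 2, 3, 4, 5, 5, 7, 6, 4, 3, 2, 3, 4,
  5, 8]), ([4, 9, 3, 9, 3], [[0], [3, 2, 3, 6, 4, 3, 2, 3, 4, 5, 6, 6, 4, 3, 2, 3, 4, 5, 5, 7, 6,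
  4, 3, 2, 3, 4, 5, 8], [0, 2, 6, 4, 3, 2, 3, 4, 5, 6, 6, 4, 3, 2, 3, 4, 5, 5, 7, 6, 4, 3, 2, 3,
  4, 5, 8], [4, 3, 2, 3, 4, 6, 4, 3, 2, 3, 4, 5, 6, 6, 4, 3, 2, 3, 4, 5, 5, 7, 6, 4, 3, 2, 3, 4,
  5, 8], [6, 4, 3, 2, 3, 4, 5, 6, 6, 4, 3, 2, 3, 4, 5, 5, 7, 6, 4, 3, 2, 3, 4, 5, 8]], [2, 3, 2,
  3, 6, 4, 3, 2, 3, 4, 5, 6, 6, 4, 3, 2, 3, 4, 5, 5, 7, 6, 4, 3, 2, 3, 4, 5, 8])]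

/-- suffixes for a lift of the image of u -/
def qU00 : List (List ℕ × List ℕ) :=
  [([], []), ([2], [2]), ([0], [0]), ([0, 2], [0, 2])]

/-- suffixes for a lift of the image of u -/
def qU01 : List (List ℕ × List ℕ) :=
  [([], []), ([2], [2]), ([0], [0]), ([0, 2], [0, 2])]

/-- suffixes for a lift of the image of u -/
def qU10 : List (List ℕ × List ℕ) :=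
  [([], []), ([2], [2]), ([0], [0]), ([0, 2], [0, 2])]

/-- suffixes for a lift of the image of u -/
def qU11 : List (List ℕ × List ℕ) :=
  [([], []), ([2], [2]), ([0], [0]), ([0, 2], [0, 2])]

/-- the conjugates of the two images of e by the two lifts -/
def etU : List (List (List ℕ)) :=
  [[[4], [4]], [[4, 2, 3, 2, 3, 4, 3, 2, 3, 4], [4, 0, 2, 3, 2, 3, 4, 3, 2, 3, 4]]]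

/-- a word conjugating a to e and centralising t -/
def gW : List ℕ :=
  [3, 2, 3, 2, 4, 3, 2, 1, 0, 3, 9, 1, 2, 9, 1]

/-- the conjugate of a conjugate of e -/
def epsW : List ℕ :=
  [2, 3, 2, 3, 4, 3, 2, 3, 4, 6, 4, 3, 2, 3, 4, 5, 4, 6, 4, 3, 2, 3, 4, 5, 4]

/-- lifts that cannot occur, with the conjugates of the fixed element -/
def sixW : List (List ℕ × List ℕ) :=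
  [([3], [2, 3, 2, 3, 4, 3, 2, 3, 4, 6, 4, 3, 2, 3, 4, 5, 6, 6, 4, 3, 2, 3, 4, 5, 5, 7, 6, 4, 3,
  2, 3, 4, 5, 8, 6, 4, 3, 2, 3, 4, 5, 5, 4, 3, 2, 3, 4, 6, 6, 6, 4, 3, 2, 3, 4, 5, 5]), ([4, 3,
  4], [0, 6, 4, 3, 2, 3, 4, 5, 6, 6, 4, 3, 2, 3, 4, 5, 5, 7, 6, 4, 3, 2, 3, 4, 5, 8, 5, 4, 3, 2,
  3, 4, 6, 4, 6, 4, 3, 2, 3, 4, 5, 4, 6, 6, 4, 3, 2, 3, 4, 5, 5]), ([9, 3, 9], [2, 3, 2, 3, 4, 3,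
  2, 3, 4, 6, 4, 3, 2, 3, 4, 5, 6, 6, 4, 3, 2, 3, 4, 5, 5, 7, 6, 4, 3, 2, 3, 4, 5, 8, 6, 4, 3, 2,
  3, 4, 5, 5, 4, 3, 2, 3, 4, 6, 6, 6, 4, 3, 2, 3, 4, 5, 5]), ([4, 9, 3, 4, 9], [0, 6, 4, 3, 2, 3,
  4, 5, 6, 6, 4, 3, 2, 3, 4, 5, 5, 7, 6, 4, 3, 2, 3, 4, 5, 8, 5, 4, 3, 2, 3, 4, 6, 4, 6, 4, 3, 2,
  3, 4, 5, 4, 6, 6, 4, 3, 2, 3, 4, 5, 5]), ([3, 4, 9, 3, 9], [0, 6, 4, 3, 2, 3, 4, 5, 6, 6, 4, 3,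
  2, 3, 4, 5, 5, 7, 6, 4, 3, 2, 3, 4, 5, 8, 5, 4, 3, 2, 3, 4, 6, 4, 6, 4, 3, 2, 3, 4, 5, 4, 6, 6,
  4, 3, 2, 3, 4, 5, 5]), ([3, 9, 3, 9, 3], [2, 3, 2, 3, 4, 3, 2, 3, 4, 6, 4, 3, 2, 3, 4, 5, 6, 6,
  4, 3, 2, 3, 4, 5, 5, 7, 6, 4, 3, 2, 3, 4, 5, 8, 6, 4, 3, 2, 3, 4, 5, 5, 4, 3, 2, 3, 4, 6, 6, 6,
  4, 3, 2, 3, 4, 5, 5])]

/-- suffixes after e -/
def qB0 : List (List ℕ) :=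
  [[], [3, 2, 3, 4, 3, 2, 3, 4], [2], [2, 3, 2, 3, 4, 3, 2, 3, 4], [0], [0, 3, 2, 3, 4, 3, 2, 3,
  4], [0, 2], [0, 2, 3, 2, 3, 4, 3, 2, 3, 4]]

/-- suffixes for the second lift -/
def qB1 : List (List ℕ × List ℕ) :=
  [([4, 3, 2, 3, 4], [0, 3, 2, 3, 4, 3, 2, 3, 4, 6, 4, 3, 2, 3, 4, 5, 6, 6, 4, 3, 2, 3, 4, 5, 5,
  7, 6, 4, 3, 2, 3, 4, 5, 8]), ([3, 2, 3, 4, 3, 2, 3, 4, 6, 4, 3, 2, 3, 4, 5, 6, 6, 4, 3, 2, 3, 4,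
  5, 5, 7, 6, 4, 3, 2, 3, 4, 5, 8], [2, 4, 3, 2, 3, 4, 6, 4, 3, 2, 3, 4, 5, 6, 6, 4, 3, 2, 3, 4,
  5, 5, 7, 6, 4, 3, 2, 3, 4, 5, 8, 0, 3, 2, 3, 4, 3, 2, 3, 4, 6, 4, 3, 2, 3, 4, 5, 6, 6, 4, 3, 2,
  3, 4, 5, 5, 7, 6, 4, 3, 2, 3, 4, 5, 8, 0, 2, 3, 2, 3, 4, 3, 2, 3, 4]), ([2], [2, 3, 2, 3, 6, 4,
  3, 2, 3, 4, 5, 6, 6, 4, 3, 2, 3, 4, 5, 5, 7, 6, 4, 3, 2, 3, 4, 5, 8]), ([2, 3, 2, 3, 6, 4, 3, 2,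
  3, 4, 5, 6, 6, 4, 3, 2, 3, 4, 5, 5, 7, 6, 4, 3, 2, 3, 4, 5, 8], [2, 3, 2, 3, 6, 4, 3, 2, 3, 4,
  5, 6, 6, 4, 3, 2, 3, 4, 5, 5, 7, 6, 4, 3, 2, 3, 4, 5, 8, 2, 4, 3, 2, 3, 4, 6, 4, 3, 2, 3, 4, 5,
  6, 6, 4, 3, 2, 3, 4, 5, 5, 7, 6, 4, 3, 2, 3, 4, 5, 8, 0, 2, 3, 2, 3, 4, 3, 2, 3, 4]), ([0, 4, 3,
  2, 3, 4], [0, 0, 3, 2, 3, 4, 3, 2, 3, 4, 6, 4, 3, 2, 3, 4, 5, 6, 6, 4, 3, 2, 3, 4, 5, 5, 7, 6,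
  4, 3, 2, 3, 4, 5, 8]), ([0, 3, 2, 3, 4, 3, 2, 3, 4, 6, 4, 3, 2, 3, 4, 5, 6, 6, 4, 3, 2, 3, 4, 5,
  5, 7, 6, 4, 3, 2, 3, 4, 5, 8], [0, 2, 4, 3, 2, 3, 4, 6, 4, 3, 2, 3, 4, 5, 6, 6, 4, 3, 2, 3, 4,
  5, 5, 7, 6, 4, 3, 2, 3, 4, 5, 8, 0, 3, 2, 3, 4, 3, 2, 3, 4, 6, 4, 3, 2, 3, 4, 5, 6, 6, 4, 3, 2,
  3, 4, 5, 5, 7, 6, 4, 3, 2, 3, 4, 5, 8, 0, 2, 3, 2, 3, 4, 3, 2, 3, 4]), ([0, 2], [0, 2, 3, 2, 3,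
  6, 4, 3, 2, 3, 4, 5, 6, 6, 4, 3, 2, 3, 4, 5, 5, 7, 6, 4, 3, 2, 3, 4, 5, 8]), ([0, 2, 3, 2, 3, 6,
  4, 3, 2, 3, 4, 5, 6, 6, 4, 3, 2, 3, 4, 5, 5, 7, 6, 4, 3, 2, 3, 4, 5, 8], [0, 2, 3, 2, 3, 6, 4,
  3, 2, 3, 4, 5, 6, 6, 4, 3, 2, 3, 4, 5, 5, 7, 6, 4, 3, 2, 3, 4, 5, 8, 2, 4, 3, 2, 3, 4, 6, 4, 3,
  2, 3, 4, 5, 6, 6, 4, 3, 2, 3, 4, 5, 5, 7, 6, 4, 3, 2, 3, 4, 5, 8, 0, 2, 3, 2, 3, 4, 3, 2, 3,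
  4])]

/-- suffixes for the third lift -/
def qB2 : List (List ℕ × List ℕ) :=
  [([3, 2, 3], [0, 2, 6, 4, 3, 2, 3, 4, 5, 6, 6, 4, 3, 2, 3, 4, 5, 5, 7, 6, 4, 3, 2, 3, 4, 5, 8]),
  ([3, 2, 3, 6, 4, 3, 2, 3, 4, 5, 6, 6, 4, 3, 2, 3, 4, 5, 5, 7, 6, 4, 3, 2, 3, 4, 5, 8], [0, 2, 6,
  4, 3, 2, 3, 4, 5, 6, 6, 4, 3, 2, 3, 4, 5, 5, 7, 6, 4, 3, 2, 3, 4, 5, 8, 6, 4, 3, 2, 3, 4, 5, 6,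
  6, 4, 3, 2, 3, 4, 5, 5, 7, 6, 4, 3, 2, 3, 4, 5, 8]), ([2], [3, 2, 3, 6, 4, 3, 2, 3, 4, 5, 6, 6,
  4, 3, 2, 3, 4, 5, 5, 7, 6, 4, 3, 2, 3, 4, 5, 8]), ([2, 6, 4, 3, 2, 3, 4, 5, 6, 6, 4, 3, 2, 3, 4,
  5, 5, 7, 6, 4, 3, 2, 3, 4, 5, 8], [3, 2, 3, 6, 4, 3, 2, 3, 4, 5, 6, 6, 4, 3, 2, 3, 4, 5, 5, 7,
  6, 4, 3, 2, 3, 4, 5, 8, 6, 4, 3, 2, 3, 4, 5, 6, 6, 4, 3, 2, 3, 4, 5, 5, 7, 6, 4, 3, 2, 3, 4, 5,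
  8]), ([0, 3, 2, 3], [0, 0, 2, 6, 4, 3, 2, 3, 4, 5, 6, 6, 4, 3, 2, 3, 4, 5, 5, 7, 6, 4, 3, 2, 3,
  4, 5, 8]), ([0, 3, 2, 3, 6, 4, 3, 2, 3, 4, 5, 6, 6, 4, 3, 2, 3, 4, 5, 5, 7, 6, 4, 3, 2, 3, 4, 5,
  8], [0, 0, 2, 6, 4, 3, 2, 3, 4, 5, 6, 6, 4, 3, 2, 3, 4, 5, 5, 7, 6, 4, 3, 2, 3, 4, 5, 8, 6, 4,
  3, 2, 3, 4, 5, 6, 6, 4, 3, 2, 3, 4, 5, 5, 7, 6, 4, 3, 2, 3, 4, 5, 8]), ([0, 2], [0, 3, 2, 3, 6,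
  4, 3, 2, 3, 4, 5, 6, 6, 4, 3, 2, 3, 4, 5, 5, 7, 6, 4, 3, 2, 3, 4, 5, 8]), ([0, 2, 6, 4, 3, 2, 3,
  4, 5, 6, 6, 4, 3, 2, 3, 4, 5, 5, 7, 6, 4, 3, 2, 3, 4, 5, 8], [0, 3, 2, 3, 6, 4, 3, 2, 3, 4, 5,
  6, 6, 4, 3, 2, 3, 4, 5, 5, 7, 6, 4, 3, 2, 3, 4, 5, 8, 6, 4, 3, 2, 3, 4, 5, 6, 6, 4, 3, 2, 3, 4,
  5, 5, 7, 6, 4, 3, 2, 3, 4, 5, 8])]

/-- the survivors of the first relation -/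
def bS1 : List (List ℕ) :=
  [[4, 0], [4, 3, 9, 3, 9, 2], [4, 3, 9, 3, 9, 2, 3, 2, 3, 6, 4, 3, 2, 3, 4, 5, 6, 6, 4, 3, 2, 3,
  4, 5, 5, 7, 6, 4, 3, 2, 3, 4, 5, 8], [4, 3, 9, 3, 9, 0, 4, 3, 2, 3, 4], [4, 3, 9, 3, 9, 0, 3, 2,
  3, 4, 3, 2, 3, 4, 6, 4, 3, 2, 3, 4, 5, 6, 6, 4, 3, 2, 3, 4, 5, 5, 7, 6, 4, 3, 2, 3, 4, 5, 8],
  [4, 9, 3, 9, 3, 3, 2, 3], [4, 9, 3, 9, 3, 3, 2, 3, 6, 4, 3, 2, 3, 4, 5, 6, 6, 4, 3, 2, 3, 4, 5,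
  5, 7, 6, 4, 3, 2, 3, 4, 5, 8], [4, 9, 3, 9, 3, 2], [4, 9, 3, 9, 3, 2, 6, 4, 3, 2, 3, 4, 5, 6, 6,
  4, 3, 2, 3, 4, 5, 5, 7, 6, 4, 3, 2, 3, 4, 5, 8]]

/-- the survivors of the second relation -/
def bS2 : List (List ℕ) :=
  [[4, 0], [4, 3, 9, 3, 9, 0, 4, 3, 2, 3, 4], [4, 9, 3, 9, 3, 2]]

/-- the two survivors -/
def bS : List (List ℕ) :=
  [[4, 3, 9, 3, 9, 0, 4, 3, 2, 3, 4], [4, 9, 3, 9, 3, 2]]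

end CfsgLib.ThAut52
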