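import Cfsg.Agent.ThCent69.AltData

/-!
Permutations of nine points with prescribed relations to the images of d, e, s, t, u.
-/

set_option autoImplicit false
set_option maxRecDepth 100000

namespace CfsgLib.ThAut52

open CfsgLib.ThCent69 Equiv

abbrev P9 := Perm (Fin 9)

/-- the image of a letter -/
def pv : ℕ → P9
  | 3 => Alt.dP
  | 4 => Alt.eP
  | 5 => Alt.sP
  | 6 => Alt.sP⁻¹
  | 7 => Alt.tP
  | 8 => Alt.tP⁻¹
  | 9 => Alt.uP
  | 10 => Alt.uP⁻¹
  | _ => 1

/-- the image of a word -/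
def P (w : List ℕ) : P9 := (w.map pv).prod

theorem sign_pv : ∀ x : ℕ, Perm.sign (pv x) = 1
  | 3 | 4 | 5 | 6 | 7 | 8 | 9 | 10 => by decide +kernel
  | 0 | 1 | 2 | _ + 11 => map_one _

theorem sign_P : ∀ w : List ℕ, Perm.sign (P w) = 1
  | [] => map_one _
  | x :: w => by
    rw [show P (x :: w) = pv x * P w by simp [P], map_mul, sign_pv, sign_P w, one_mul]

/-- the list of images -/
def lst (σ : P9) : List ℕ := List.ofFn fun i => (σ i).val

theorem lst_inj {σ τ : P9} (h : lst σ = lst τ) : σ = τ :=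
  Equiv.ext fun i => Fin.ext (congrFun (List.ofFn_injective h) i)

/-- composition on lists -/
def mulL (f g : List ℕ) : List ℕ := g.map fun i => f.getD i 0

theorem lst_getD (σ : P9) (i : Fin 9) : (lst σ).getD i.val 0 = (σ i).val := by
  fin_cases i <;> rfl

theorem lst_mul (σ τ : P9) : lst (σ * τ) = mulL (lst σ) (lst τ) := by
  unfold mulL
  conv_rhs => arg 2; unfold lst
  rw [List.map_ofFn]
  exact congrArg List.ofFn (funext fun i => (lst_getD σ (τ i)).symm)

def idL : List ℕ := List.range 9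

theorem lst_one : lst 1 = idL := by decide +kernel

/-- no repetition -/
def ndB : List ℕ → Bool
  | [] => true
  | x :: l => !(l.elem x) && ndB l

theorem ndB_of_nodup : ∀ {l : List ℕ}, l.Nodup → ndB l = true
  | [], _ => rfl
  | x :: l, h => by
    rw [List.nodup_cons] at h
    simp [ndB, h.1, ndB_of_nodup h.2]

theorem nd_lst (σ : P9) : ndB (lst σ) = true :=
  ndB_of_nodup (List.nodup_ofFn.2 fun _ _ h => σ.injective (Fin.ext h))

theorem mem_range (σ : P9) (i : Fin 9) : (σ i).val ∈ List.range 9 := List.mem_range.2 (σ i).isLt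

/-! ### intertwining the image of t -/

/-- lists of the permutations turning the image of t into `r` -/
def candT (r : List ℕ) : List (List ℕ) :=
  let g := fun i => r.getD i 0
  [0, 7, 8].flatMap fun a => [0, 7, 8].flatMap fun b => [0, 7, 8].flatMap fun c =>
    (List.range 9).flatMap fun p => (List.range 9).map fun q =>
      [a, p, g (g p), q, g p, g q, g (g q), b, c]

theorem fix_mem (r : P9) (hr : ∀ x : Fin 9, r x = x → x.val ∈ [0, 7, 8]) (σ : P9)
    (h : σ * Alt.tP = r * σ) (i : Fin 9) (hi : Alt.tP i = i) : (σ i).val ∈ [0, 7, 8] := by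
  refine hr _ ?_
  have := Equiv.ext_iff.1 h i
  simp only [Perm.mul_apply, hi] at this
  exact this.symm

theorem lst_mem_candT (r : P9) (hr : ∀ x : Fin 9, r x = x → x.val ∈ [0, 7, 8]) (σ : P9)
    (h : σ * Alt.tP = r * σ) : lst σ ∈ candT (lst r) := by
  have e : ∀ i j : Fin 9, Alt.tP i = j → (σ j).val = (lst r).getD (σ i).val 0 := fun i j hij => by
    have := Equiv.ext_iff.1 h i
    simp only [Perm.mul_apply, hij] at this
    rw [lst_getD, this]
  have e4 := e 1 4 (by decide)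
  have e2 := e 4 2 (by decide)
  have e5 := e 3 5 (by decide)
  have e6 := e 5 6 (by decide)
  simp only [candT, List.mem_flatMap, List.mem_map]
  refine ⟨_, fix_mem r hr σ h 0 (by decide), _, fix_mem r hr σ h 7 (by decide), _,
    fix_mem r hr σ h 8 (by decide), _, mem_range σ 1, _, mem_range σ 3, ?_⟩
  rw [← e4, ← e2, ← e5, ← e6]
  rfl

theorem tP_fix : ∀ x : Fin 9, Alt.tP x = x → x.val ∈ [0, 7, 8] := by decide +kernel

theorem tP_inv_fix : ∀ x : Fin 9, Alt.tP⁻¹ x = x → x.val ∈ [0, 7, 8] := by decide +kernel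

/-- the permutations of the good words and the odd ones -/
def pick (ws bad : List (List ℕ)) : List (List ℕ) :=
  ws.map (fun w => lst (P w)) ++ bad.map fun w => lst (P w * Equiv.swap 0 1)

theorem of_pick {ws bad : List (List ℕ)} {σ : P9} (h : lst σ ∈ pick ws bad)
    (hs : Perm.sign σ = 1) : ∃ w ∈ ws, σ = P w := by
  rw [pick, List.mem_append, List.mem_map, List.mem_map] at h
  rcases h with ⟨w, hw, e⟩ | ⟨w, -, e⟩
  · exact ⟨w, hw, (lst_inj e).symm⟩
  · exfalso
    rw [← lst_inj e, map_mul, sign_P, Perm.sign_swap (by decide)] at hs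
    exact absurd hs (by decide)

/-! ### the centraliser of the image of s -/

def candS : List (List ℕ) :=
  let g := fun i => (lst Alt.sP).getD i 0
  (List.range 9).flatMap fun a => [7, 8].flatMap fun b => [7, 8].map fun c =>
    [a, g (g (g (g (g (g a))))), g (g (g (g (g a)))), g (g (g (g a))), g (g (g a)), g (g a), g a, b, c]

def sWords : List (List ℕ) := (List.range 7).map fun i => List.replicate i 5

def sBad : List (List ℕ) :=
  [[3, 9, 3, 5, 9, 3, 9, 6, 7], [5, 8, 9, 3, 9, 3, 5, 9, 3], [8, 9, 3, 9, 3, 5, 9, 3],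
   [6, 8, 9, 3, 9, 3, 5, 9, 3], [4, 3, 4, 8, 9, 3, 4, 6, 9], [3, 5, 4, 3, 8, 9, 3, 4, 6, 9],
   [3, 6, 9, 3, 5, 9, 3, 9, 6, 7]]

theorem candS_ok : candS.all (fun l => !ndB l || (pick sWords sBad).elem l) = true := by
  decide +kernel

theorem centralizer_sP {σ : P9} (h : σ * Alt.sP = Alt.sP * σ) (hs : Perm.sign σ = 1) :
    ∃ i < 7, σ = P (List.replicate i 5) := by
  have e : ∀ i j : Fin 9, Alt.sP i = j → (σ j).val = (lst Alt.sP).getD (σ i).val 0 :=
    fun i j hij => by
      have := Equiv.ext_iff.1 h i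
      simp only [Perm.mul_apply, hij] at this
      rw [lst_getD, this]
  have hfix : ∀ i : Fin 9, Alt.sP i = i → (σ i).val ∈ [7, 8] := fun i hi => by
    have := Equiv.ext_iff.1 h i
    simp only [Perm.mul_apply, hi] at this
    exact (show ∀ x : Fin 9, Alt.sP x = x → x.val ∈ [7, 8] by decide +kernel) _ this.symm
  have e6 := e 0 6 (by decide)
  have e5 := e 6 5 (by decide)
  have e4 := e 5 4 (by decide)
  have e3 := e 4 3 (by decide)
  have e2 := e 3 2 (by decide)
  have e1 := e 2 1 (by decide)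
  have hm : lst σ ∈ candS := by
    simp only [candS, List.mem_flatMap, List.mem_map]
    refine ⟨_, mem_range σ 0, _, hfix 7 (by decide), _, hfix 8 (by decide), ?_⟩
    rw [← e6, ← e5, ← e4, ← e3, ← e2, ← e1]
    rfl
  have h' := List.all_eq_true.1 candS_ok _ hm
  rw [nd_lst] at h'
  obtain ⟨w, hw, rfl⟩ := of_pick (by simpa using h') hs
  obtain ⟨i, hi, rfl⟩ := List.mem_map.1 hw
  exact ⟨i, List.mem_range.1 hi, rfl⟩

/-! ### involutions -/

def sqI (l : List ℕ) : Bool := mulL l l == idL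

def condE (l : List ℕ) : Bool :=
  let d := lst Alt.dP
  let s := lst Alt.sP
  let si := lst Alt.sP⁻¹
  sqI l && mulL (mulL (mulL d l) (mulL d l)) (mulL d l) == idL &&
    mulL (mulL (mulL l si) l) s == mulL (mulL (mulL (mulL si si) si) l) (mulL (mulL s s) s)

theorem eBar_ok : (candT (lst Alt.tP)).all (fun l => !(ndB l && condE l) ||
    (pick [[4], [3, 4, 9, 3, 9]] []).elem l) = true := by decide +kernel

def condU (l : List ℕ) : Bool :=
  let d := lst Alt.dP
  let e := lst Alt.eP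
  let ls := mulL l (lst Alt.sP)
  let y := mulL (mulL d e) (mulL (mulL l d) l)
  sqI l && mulL l e == mulL e l && mulL (mulL ls ls) ls == idL && mulL y y == idL

theorem uBar_ok : (candT (lst Alt.tP⁻¹)).all (fun l => !(ndB l && condU l) ||
    (pick [[9], [4, 9]] []).elem l) = true := by decide +kernel

def xWords : List (List ℕ) :=
  [[4], [3], [4, 3, 4], [9, 3, 9], [4, 3, 9, 3, 9], [4, 9, 3, 4, 9], [4, 9, 3, 9, 3],
   [3, 4, 9, 3, 9], [3, 9, 3, 9, 3]]

def xBad : List (List ℕ) :=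
  [[3, 9, 3, 5, 9, 3, 9, 6, 7], [3, 6, 9, 3, 5, 9, 6, 7], [3, 7, 5, 9, 3, 5, 9, 5, 7],
   [9, 3, 5, 9, 3, 9, 6, 7], [4, 3, 6, 9, 3, 5, 9, 6, 7], [9, 3, 4, 5, 9, 3, 9, 6, 7]]

def condX (l : List ℕ) : Bool :=
  let le := mulL l (lst Alt.eP)
  sqI l && mulL (mulL le le) le == idL

theorem xBar_ok : (candT (lst Alt.tP)).all (fun l => !(ndB l && condX l) ||
    (pick xWords xBad).elem l) = true := by decide +kernel

theorem sqI_of {σ : P9} (h : σ * σ = 1) : sqI (lst σ) = true := by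
  rw [sqI, ← lst_mul, h, lst_one, beq_self_eq_true]

theorem x_bar {σ : P9} (ht : σ * Alt.tP = Alt.tP * σ) (h2 : σ * σ = 1)
    (h3 : σ * Alt.eP * (σ * Alt.eP) * (σ * Alt.eP) = 1) (hs : Perm.sign σ = 1) :
    ∃ w ∈ xWords, σ = P w := by
  have hc : condX (lst σ) = true := by
    simp only [condX, ← lst_mul, h3, sqI_of h2, lst_one, beq_self_eq_true, Bool.and_self]
  have h' := List.all_eq_true.1 xBar_ok _ (lst_mem_candT _ tP_fix σ ht)
  rw [nd_lst, hc] at h'
  exact of_pick (by simpa using h') hs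

theorem e_bar {σ : P9} (ht : σ * Alt.tP = Alt.tP * σ) (h2 : σ * σ = 1)
    (h3 : Alt.dP * σ * (Alt.dP * σ) * (Alt.dP * σ) = 1)
    (h4 : σ * Alt.sP⁻¹ * σ * Alt.sP =
      Alt.sP⁻¹ * Alt.sP⁻¹ * Alt.sP⁻¹ * σ * (Alt.sP * Alt.sP * Alt.sP))
    (hs : Perm.sign σ = 1) : σ = P [4] ∨ σ = P [3, 4, 9, 3, 9] := by
  have hc : condE (lst σ) = true := by
    simp only [condE, ← lst_mul, h3, h4, sqI_of h2, lst_one, beq_self_eq_true, Bool.and_self]
  have h' := List.all_eq_true.1 eBar_ok _ (lst_mem_candT _ tP_fix σ ht)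
  rw [nd_lst, hc] at h'
  obtain ⟨w, hw, rfl⟩ := of_pick (by simpa using h') hs
  simp only [List.mem_cons, List.not_mem_nil, or_false] at hw
  rcases hw with rfl | rfl <;> simp

theorem u_bar {σ : P9} (ht : σ * Alt.tP = Alt.tP⁻¹ * σ) (h2 : σ * σ = 1)
    (he : σ * Alt.eP = Alt.eP * σ) (h3 : σ * Alt.sP * (σ * Alt.sP) * (σ * Alt.sP) = 1)
    (h4 : Alt.dP * Alt.eP * (σ * Alt.dP * σ) * (Alt.dP * Alt.eP * (σ * Alt.dP * σ)) = 1)
    (hs : Perm.sign σ = 1) : σ = P [9] ∨ σ = P [4, 9] := by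
  have hc : condU (lst σ) = true := by
    simp only [condU, ← lst_mul, h3, h4, he, sqI_of h2, lst_one, beq_self_eq_true, Bool.and_self]
  have h' := List.all_eq_true.1 uBar_ok _ (lst_mem_candT _ tP_inv_fix σ ht)
  rw [nd_lst, hc] at h'
  obtain ⟨w, hw, rfl⟩ := of_pick (by simpa using h') hs
  simp only [List.mem_cons, List.not_mem_nil, or_false] at hw
  rcases hw with rfl | rfl <;> simp

end CfsgLib.ThAut52
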