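import Cfsg.Agent.ThAut52.Data
import Cfsg.Agent.ThAut52.Perm

/-!
The candidate lists and their defining equations.
-/

set_option autoImplicit false
set_option maxRecDepth 100000

namespace CfsgLib.ThAut52

open CfsgLib.ThRep32

/-- told apart on the fixed vector -/
def neqR (u v : List ℕ) : Bool := okW u && okW v && diff (run u v0) (run v v0)

/-- both words have range letters and the same image -/
def eqOK (p : List ℕ × List ℕ) : Bool := okW p.2 && idOK (p.1 ++ iw p.2)

/-- the letter is not b -/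
def noB (w : List ℕ) : Bool := w.all fun x => Nat.blt x 11 && !(x == 1)

/-- both words avoid b, have one image on nine points and on the fixed vector -/
def eqKOK (p : List ℕ × List ℕ) : Bool :=
  noB p.1 && noB p.2 && lst (P p.1) == lst (P p.2) && !(diff (run p.1 v0) (run p.2 v0))

/-- conjugation of a word -/
def cjW (x w : List ℕ) : List ℕ := x ++ w ++ iw x

/-- powers of s -/
def sP (i : ℕ) : List ℕ := List.replicate i 5

/-- generators of the part commuting with t -/
def qT5 : List (List ℕ) := qGens.take 5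

/-- candidates centralising s -/
def csC : List (List ℕ) := (List.range 7).flatMap fun i => cqS.map fun q => sP i ++ q

def classEq (q : List ℕ) : List (List ℕ × List ℕ) := [([2] ++ q, q ++ [3, 2, 3])]

def zEq (q : List ℕ) : List (List ℕ × List ℕ) := qGens.map fun g => (q ++ g, g ++ q)

def commEq (w q : List ℕ) : List (List ℕ × List ℕ) := [(w ++ q, q ++ w)]

/-- candidates for the image of t -/
def tC : List (List ℕ) := csC.map (· ++ [7])

def tEq (x : List ℕ) : List (List ℕ × List ℕ) := [(x ++ x ++ x, [])]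

def tS : List (List ℕ) := (List.range 7).map fun i => sP i ++ [7]

/-- equations for the images of c and d -/
def cEq (x : List ℕ) : List (List ℕ × List ℕ) := [(x ++ x, []), (x ++ [7], [7] ++ x)]

def dC : List (List ℕ) := csC.map (· ++ [3])

/-- lift number `k` with its conjugation action and square -/
def lift (k : ℕ) : List ℕ × List (List ℕ) × List ℕ := cjLifts.getD k ([], [], [])

/-- the lift itself -/
def liftW (k : ℕ) : List ℕ := (lift k).1

/-- products with their conjugates by lift `k` -/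
def liftP (k : ℕ) : List (List ℕ × List ℕ) := subsP (qT5.zip (lift k).2.1)

/-- the square of lift times product -/
def sqW (k : ℕ) (p : List ℕ × List ℕ) : List ℕ := p.2 ++ (lift k).2.2 ++ p.1

def sq0Eq (q : List ℕ) : List (List ℕ × List ℕ) := [([4] ++ q ++ [4] ++ q, [])]

def sqEq (k : ℕ) (p : List ℕ × List ℕ) : List (List ℕ × List ℕ) := [(sqW k p, [])]

def eC : List (List ℕ) := qE0.map ([4] ++ ·) ++ qE1.map fun p => liftW 0 ++ p.1

/-- the relation of e and s -/
def eEq (x : List ℕ) : List (List ℕ × List ℕ) :=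
  [(x ++ [6] ++ x ++ [5], [6, 6, 6] ++ x ++ [5, 5, 5])]

def triC : List (List ℕ × List ℕ × List ℕ) :=
  [cS.getD 1 [], cS.getD 2 [], cS.getD 4 [], cS.getD 5 []].flatMap fun c =>
    dS.flatMap fun d => eS.map fun x => (c, d, x)

def triEq : List ℕ × List ℕ × List ℕ → List (List ℕ × List ℕ)
  | (c, d, x) => [(c ++ x, x ++ c), (d ++ x ++ d ++ x ++ d ++ x, [])]

/-- the two normalised pairs of images of d and e -/
def nrmDE (n : ℕ) : List ℕ × List ℕ :=
  if n == 0 then ([3], [4]) else (dS.getD 2 [], eS.getD 1 [])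

/-- the conjugate of the image of e by lift `k` of the image of u -/
def etW (n k : ℕ) : List ℕ := (etU.getD n []).getD k []

/-- conditions on the suffix of lift `k + 1` of the image of u -/
def uSufEq (n k : ℕ) (p : List ℕ × List ℕ) : List (List ℕ × List ℕ) :=
  [(p.1 ++ [2], [2] ++ p.1), (p.1 ++ (nrmDE n).2, etW n k ++ p.1), (sqW (k + 1) p, [0, 2])]

def qU (n k : ℕ) : List (List ℕ × List ℕ) :=
  if n == 0 then (if k == 0 then qU00 else qU01) else (if k == 0 then qU10 else qU11)

def uC (n : ℕ) : List (List ℕ) :=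
  (qU n 0).map (fun p => liftW 1 ++ p.1) ++ (qU n 1).map fun p => liftW 2 ++ p.1

/-- `u` conjugated by `s²` -/
def uS2 (x : List ℕ) : List ℕ := [6, 6] ++ x ++ [5, 5]

def uEq (d e x : List ℕ) : List (List ℕ × List ℕ) :=
  [(x ++ [5] ++ x ++ [5] ++ x ++ [5], [0, 2]), (e ++ uS2 x, uS2 x ++ e),
   (d ++ uS2 x ++ (d ++ uS2 x) ++ (d ++ uS2 x) ++ (d ++ uS2 x),
    [0, 2] ++ d ++ [2] ++ d ++ [5] ++ e ++ d ++ [2] ++ d ++ e ++ [6] ++ [6, 6] ++ e ++ d ++ [2] ++ d ++ e ++
      [5, 5])]

def sixEq (w : List ℕ × List ℕ) (q : List ℕ) : List (List ℕ × List ℕ) :=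
  [(q ++ epsW, w.2 ++ q)]

def bC : List (List ℕ) :=
  qB0.map ([4] ++ ·) ++ qB1.map (fun p => liftW 3 ++ p.1) ++ qB2.map fun p => liftW 4 ++ p.1

/-- the image of b from its conjugate in the centraliser of a -/
def bOf (x : List ℕ) : List ℕ := gW ++ x ++ iw gW

/-- the cube with the conjugate of a -/
def bEq1 (x : List ℕ) : List (List ℕ × List ℕ) :=
  [(x ++ [4, 0] ++ (x ++ [4, 0]) ++ (x ++ [4, 0]), [])]

def bEq2 (x : List ℕ) : List (List ℕ × List ℕ) := [(bOf x ++ [3], [3] ++ bOf x)]

def bEq3 (x : List ℕ) : List (List ℕ × List ℕ) :=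
  [(bOf x ++ [2] ++ bOf x ++ [2] ++ bOf x ++ [2], [])]

end CfsgLib.ThAut52
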