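import Cfsg.Agent.ThAut52.Perm
import Cfsg.Agent.ThAut52.ChkQ
import Cfsg.Agent.ThAut52.ChkV
import Cfsg.Agent.ThAut52.ChkI
import Cfsg.Agent.ThAut52.ChkL
import Cfsg.Agent.ThAut52.ChkR

/-!
The involution centraliser as a set of words: lifts along the quotient map to the alternating
group of degree 9, and the centre of a Sylow 2-subgroup.
-/

set_option autoImplicit false
set_option maxRecDepth 100000

namespace CfsgLib.ThAut52

open CfsgLib.ThRep32 Subgroup

/-- the group generated by the letters other than b -/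
def Kw : Subgroup Th := closure {g | ∃ x < 11, x ≠ 1 ∧ letter x = g}

theorem W_mem_Kw {w : List ℕ} (h : noB w = true) : W w ∈ Kw := by
  induction w with
  | nil => exact one_mem _
  | cons x w ih =>
    rw [noB, List.all_cons, Bool.and_eq_true, Bool.and_eq_true] at h
    rw [W_cons]
    exact mul_mem (subset_closure ⟨x, Nat.le_of_ble_eq_true h.1.1, by simpa using h.1.2, rfl⟩)
      (ih h.2)

theorem noB_append {u v : List ℕ} : noB (u ++ v) = (noB u && noB v) := List.all_append

/-- what is used about the centraliser of `a` -/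
structure Facts : Prop where
  inj : Function.Injective rep
  perm : PermFact
  fin : Finite Th
  cardG : Nat.card Th = 90745943887872000
  cent : centralizer ({W [0]} : Set Th) = Kw
  cardK : Nat.card Kw = 92897280
  quot : ∃ φ : Kw →* P9, (∀ x : Kw, ∀ i < 11, i ≠ 1 → (x : Th) = letter i → φ x = pv i) ∧
    φ.range = alternatingGroup (Fin 9) ∧ Nat.card φ.ker ≤ 512

variable (F : Facts)
include F

theorem phi_word : ∃ φ : Kw →* P9,
    (∀ w (h : noB w = true), φ ⟨W w, W_mem_Kw h⟩ = P w) ∧
      φ.range = alternatingGroup (Fin 9) ∧ Nat.card φ.ker ≤ 512 := by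
  obtain ⟨φ, h1, h2, h3⟩ := F.quot
  refine ⟨φ, fun w h => ?_, h2, h3⟩
  induction w with
  | nil => exact map_one φ
  | cons x w ih =>
    have h' := h
    rw [noB, List.all_cons, Bool.and_eq_true, Bool.and_eq_true] at h'
    have hx : letter x ∈ Kw := by
      have := W_mem_Kw (w := [x]) (by simp [noB, h'.1.1, h'.1.2])
      rwa [W_single] at this
    have e : (⟨W (x :: w), W_mem_Kw h⟩ : Kw) = ⟨letter x, hx⟩ * ⟨W w, W_mem_Kw h'.2⟩ :=
      Subtype.ext (W_cons x w)
    rw [e, map_mul, h1 _ x (Nat.le_of_ble_eq_true h'.1.1) (by simpa using h'.1.2) rfl, ih h'.2]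
    rfl

/-- the quotient map -/
noncomputable def phi : Kw →* P9 := (phi_word F).choose

theorem phi_W {w : List ℕ} (h : noB w = true) : phi F ⟨W w, W_mem_Kw h⟩ = P w :=
  (phi_word F).choose_spec.1 w h

theorem phi_range : (phi F).range = alternatingGroup (Fin 9) := (phi_word F).choose_spec.2.1

theorem sign_phi (x : Kw) : Equiv.Perm.sign (phi F x) = 1 := by
  have : phi F x ∈ (phi F).range := ⟨x, rfl⟩
  rw [phi_range] at this
  exact Equiv.Perm.mem_alternatingGroup.1 this

omit F in
theorem qGens_ok : qGens.all noB = true ∧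
    qGens.all (fun w => lst (P w) == idL) = true := by decide +kernel

omit F in
theorem v0_good : goodB v0 = true := by decide +kernel

omit F in
theorem hnR {u v : List ℕ} (h : neqR u v = true) : W u ≠ W v := ne_of_neqR v0_good h

theorem hnH {u v : List ℕ} (h : neqH u v = true) : W u ≠ W v := ne_of_neqH F.perm h

omit F in
theorem noB_subs {q : List ℕ} : ∀ {gs : List (List ℕ)}, gs.all noB = true → q ∈ subs gs →
    noB q = true
  | [], _, h => by rw [subs, List.mem_singleton] at h; subst h; rfl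
  | g :: gs, hg, h => by
    rw [List.all_cons, Bool.and_eq_true] at hg
    rw [subs, List.mem_append] at h
    rcases h with h | h
    · exact noB_subs hg.2 h
    · obtain ⟨r, hr, rfl⟩ := List.mem_map.1 h
      rw [noB_append, hg.1, noB_subs hg.2 hr]
      rfl

omit F in
theorem P_append (u v : List ℕ) : P (u ++ v) = P u * P v := by simp [P]

omit F in
theorem P_subs {q : List ℕ} : ∀ {gs : List (List ℕ)}, (∀ g ∈ gs, P g = 1) → q ∈ subs gs → P q = 1
  | [], _, h => by rw [subs, List.mem_singleton] at h; subst h; rfl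
  | g :: gs, hg, h => by
    rw [subs, List.mem_append] at h
    rcases h with h | h
    · exact P_subs (fun x hx => hg x (List.mem_cons_of_mem _ hx)) h
    · obtain ⟨r, hr, rfl⟩ := List.mem_map.1 h
      rw [P_append, hg g List.mem_cons_self,
        P_subs (fun x hx => hg x (List.mem_cons_of_mem _ hx)) hr, one_mul]

omit F in
theorem noB_q {q : List ℕ} (h : q ∈ subs qGens) : noB q = true := noB_subs qGens_ok.1 h

omit F in
theorem P_q {q : List ℕ} (h : q ∈ subs qGens) : P q = 1 :=
  P_subs (fun g hg => lst_inj (by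
    rw [lst_one]; exact eq_of_beq (List.all_eq_true.1 qGens_ok.2 g hg))) h

omit F in
theorem subs_self {g : List ℕ} : ∀ {gs : List (List ℕ)}, g ∈ gs → g ∈ subs gs
  | [], h => absurd h List.not_mem_nil
  | x :: gs, h => by
    rw [subs, List.mem_append]
    rcases List.mem_cons.1 h with rfl | h
    · refine Or.inr (List.mem_map.2 ⟨[], ?_, List.append_nil g⟩)
      clear h
      induction gs with
      | nil => simp [subs]
      | cons y ys ih => rw [subs]; exact List.mem_append.2 (Or.inl ih)
    · exact Or.inl (subs_self h)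

theorem ker_data : 512 ≤ Nat.card (phi F).ker ∧
    ∀ x : Kw, phi F x = 1 → ∃ q ∈ subs qGens, (x : Th) = W q := by
  classical
  haveI := F.fin
  let f : {q // q ∈ subs qGens} → (phi F).ker := fun q =>
    ⟨⟨W q.1, W_mem_Kw (noB_q q.2)⟩, by rw [MonoidHom.mem_ker, phi_W F (noB_q q.2), P_q q.2]⟩
  have hn := nodup_subs F.perm distinct
  have hq : (subs qGens).Nodup := hn.of_map
  have hf : Function.Injective f := fun q r h => by
    have : W q.1 = W r.1 := congrArg (fun z : (phi F).ker => ((z : Kw) : Th)) h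
    exact Subtype.ext (List.inj_on_of_nodup_map hn q.2 r.2 this)
  haveI : Fintype {q // q ∈ subs qGens} :=
    Fintype.ofFinset (subs qGens).toFinset fun q => List.mem_toFinset
  have hc : Nat.card {q // q ∈ subs qGens} = 512 := by
    rw [Nat.card_eq_fintype_card, Fintype.card_of_subtype (subs qGens).toFinset
      (fun q => List.mem_toFinset), List.toFinset_card_of_nodup hq]
    decide +kernel
  have hb : Function.Bijective f := (Nat.bijective_iff_injective_and_card f).2
    ⟨hf, le_antisymm (Nat.card_le_card_of_injective f hf)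
      ((phi_word F).choose_spec.2.2.trans hc.ge)⟩
  refine ⟨hc.ge.trans (Nat.card_le_card_of_injective f hf), fun x hx => ?_⟩
  obtain ⟨q, hq'⟩ := hb.2 ⟨x, hx⟩
  exact ⟨q.1, q.2, (congrArg (fun z : (phi F).ker => ((z : Kw) : Th)) hq').symm⟩

theorem ker_card_ge : 2 ^ 9 ≤ Nat.card (phi F).ker := (ker_data F).1

theorem mem_ker {x : Kw} (hx : phi F x = 1) : ∃ q ∈ subs qGens, (x : Th) = W q :=
  (ker_data F).2 x hx

/-- an element with the image of a word is the word times one of the 512 products -/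
theorem lift_word {x : Th} (hx : x ∈ Kw) {w : List ℕ} (hw : noB w = true)
    (h : phi F ⟨x, hx⟩ = P w) : ∃ q ∈ subs qGens, x = W (w ++ q) := by
  obtain ⟨q, hq, e⟩ := mem_ker F (x := (⟨W w, W_mem_Kw hw⟩ : Kw)⁻¹ * ⟨x, hx⟩) (by
    rw [map_mul, map_inv, phi_W F hw, h, inv_mul_cancel])
  refine ⟨q, hq, ?_⟩
  rw [W_append, ← e]
  simp

omit F in
theorem subs_split : ∀ {A B : List (List ℕ)} {q : List ℕ}, q ∈ subs (A ++ B) →
    ∃ q1 ∈ subs A, ∃ q2 ∈ subs B, q = q1 ++ q2
  | [], B, q, h => ⟨[], List.mem_singleton.2 rfl, q, h, rfl⟩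
  | g :: A, B, q, h => by
    rw [List.cons_append, subs, List.mem_append] at h
    rcases h with h | h
    · obtain ⟨q1, h1, q2, h2, e⟩ := subs_split h
      exact ⟨q1, by rw [subs]; exact List.mem_append.2 (Or.inl h1), q2, h2, e⟩
    · obtain ⟨r, hr, rfl⟩ := List.mem_map.1 h
      obtain ⟨q1, h1, q2, h2, rfl⟩ := subs_split hr
      exact ⟨g ++ q1, by rw [subs]; exact List.mem_append.2 (Or.inr (List.mem_map.2 ⟨q1, h1, rfl⟩)),
        q2, h2, (List.append_assoc _ _ _).symm⟩

omit F in
theorem okW_of_noB {w : List ℕ} (h : noB w = true) : okW w = true := by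
  rw [okW, List.all_eq_true]
  intro x hx
  have := List.all_eq_true.1 h x hx
  rw [Bool.and_eq_true] at this
  exact this.1

omit F in
/-- the image of the fixed vector -/
noncomputable def imv (g : Th) : Fin 248 → ZMod 3 :=
  Matrix.vecMul (vecOf v0) ((rep g : GL (Fin 248) (ZMod 3)) : Matrix (Fin 248) (Fin 248) (ZMod 3))

omit F in
theorem imv_mul_cancel {g h k : Th} (e : imv (g * k) = imv (h * k)) : imv g = imv h := by
  have key : ∀ x : Th, imv x = Matrix.vecMul (imv (x * k))
      ((rep k⁻¹ : GL (Fin 248) (ZMod 3)) : Matrix (Fin 248) (Fin 248) (ZMod 3)) := fun x => by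
    rw [imv, imv, Matrix.vecMul_vecMul, ← Units.val_mul, ← map_mul, mul_inv_cancel_right]
  rw [key g, key h, e]

omit F in
theorem imv_W {w : List ℕ} (h : okW w = true) : vecOf (run w v0) = imv (W w) := vecOf_vrun w v0 h

/-- equality in the centraliser from the image and one vector -/
theorem eqK {u v : List ℕ} (h : eqKOK (u, v) = true) : W u = W v := by
  simp only [eqKOK, Bool.and_eq_true] at h
  obtain ⟨⟨⟨hu, hv⟩, hP⟩, hd⟩ := h
  obtain ⟨q, hq, e⟩ := mem_ker F
    (x := (⟨W u, W_mem_Kw hu⟩ : Kw) * (⟨W v, W_mem_Kw hv⟩)⁻¹) (by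
      rw [map_mul, map_inv, phi_W F hu, phi_W F hv, lst_inj (eq_of_beq hP), mul_inv_cancel])
  have e' : W u = W q * W v := by rw [← e]; simp
  have hvec : imv (W u) = imv (W v) := by
    simp only [diff, Bool.not_not, Bool.and_eq_true, Nat.beq_eq] at hd
    have : red (run u v0) = red (run v v0) := Prod.ext hd.1 hd.2
    rw [← imv_W (okW_of_noB hu), ← imv_W (okW_of_noB hv), ← vecOf_red (run u v0), this, vecOf_red]
  rw [e'] at hvec
  have hfix : imv (W q) = imv 1 := imv_mul_cancel (k := W v) (by rw [hvec, one_mul])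
  obtain ⟨q1, h1, q2, h2, rfl⟩ := subs_split (A := qGens.take 4) (B := qGens.drop 4)
    (by rwa [List.take_append_drop])
  have o1 : okW q1 = true := okW_of_noB (noB_subs (by decide +kernel) h1)
  have o2 : okW q2 = true := okW_of_noB (noB_subs (by decide +kernel) h2)
  have h12 : imv (W q1) = imv (W (iw q2)) := imv_mul_cancel (k := W q2) (by
    rw [← W_append, hfix, W_iw F.inj o2, inv_mul_cancel])
  have hno : diff (run q1 v0) (run (iw q2) v0) = false :=
    diff_red (red_eq (good_vrun q1 v0 v0_good) (good_vrun (iw q2) v0 v0_good) (by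
      have o3 : okW (iw q2) = true := List.all_eq_true.1
        (show ((subs (qGens.drop 4)).map iw).all okW = true by decide +kernel) _
        (List.mem_map.2 ⟨q2, h2, rfl⟩)
      exact (imv_W o1).trans (h12.trans (imv_W o3).symm)))
  have := List.all_eq_true.1 (List.all_eq_true.1 fixFree q1 h1) q2 h2
  rw [hno, Bool.false_or, Bool.and_eq_true] at this
  rw [e', eq_of_beq this.1, eq_of_beq this.2]
  exact one_mul _

theorem a_comm {x : Th} (hx : x ∈ Kw) : x * W [0] = W [0] * x :=
  mem_centralizer_singleton_iff.1 (F.cent ▸ hx)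

theorem mem_of_comm {x : Th} (h : x * W [0] = W [0] * x) : x ∈ Kw :=
  F.cent ▸ mem_centralizer_singleton_iff.2 h

theorem eqv {u v : List ℕ} (h : eqOK (u, v) = true) : W u = W v := by
  rw [eqOK, Bool.and_eq_true] at h
  exact eq_of_idOK F.inj h.1 h.2

theorem cj {x w v : List ℕ} (hx : okW x = true) (h : eqOK (cjW x w, v) = true) :
    W x * W w * (W x)⁻¹ = W v := by
  rw [← eqv F h, cjW, W_append, W_append, W_iw F.inj hx]

omit F in
theorem inv_of_sq {x : Th} (h : x * x = 1) : x⁻¹ = x := inv_eq_of_mul_eq_one_left h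

theorem sqr {x : ℕ} (hx : x < 5) : W [x] * W [x] = 1 := by
  have := letter_inv F.inj (x := x) (by omega)
  rw [show invL x = x by interval_cases x <;> rfl] at this
  rw [W_single]
  exact mul_eq_one_iff_eq_inv.2 this

/-- a word that is the identity -/
theorem one_of {w : List ℕ} (h : eqKOK (w, []) = true) : W w = 1 := eqK F h

theorem cjK {x w v : List ℕ} (hx : okW x = true) (h : eqKOK (cjW x w, v) = true) :
    W x * W w * (W x)⁻¹ = W v := by
  rw [← eqK F h, cjW, W_append, W_append, W_iw F.inj hx]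

theorem relW {i : ℕ} (hi : i < 39) : W (relWord i) = 1 := eq_one F.inj (rel_all i hi)

theorem comm_of_sq {x : ℕ} (hx : x < 5) (h : W [1, x, 1, x] = 1) :
    Commute (W [1]) (W [x]) := by
  show W [1] * W [x] = W [x] * W [1]
  rw [show ([1, x, 1, x] : List ℕ) = [1] ++ [x] ++ ([1] ++ [x]) from rfl, W_append, W_append] at h
  rw [mul_eq_one_iff_eq_inv.1 h, mul_inv_rev, inv_of_sq (sqr F (x := 1) (by norm_num)),
    inv_of_sq (sqr F hx)]

theorem bd_comm : Commute (W [1]) (W [3]) :=
  comm_of_sq F (by norm_num) (rel_b.2.2.1 ▸ relW F (i := 8) (by norm_num))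

theorem be_comm : Commute (W [1]) (W [4]) :=
  comm_of_sq F (by norm_num) (rel_b.2.2.2.1 ▸ relW F (i := 9) (by norm_num))

theorem comm_of_conj {x : ℕ} (hx : x < 11) (h : W [invL x, 1, x, 1] = 1) :
    Commute (W [1]) (W [x]) := by
  show W [1] * W [x] = W [x] * W [1]
  rw [show ([invL x, 1, x, 1] : List ℕ) = [invL x] ++ [1] ++ [x] ++ [1] from rfl, W_append,
    W_append, W_append, W_single (invL x), letter_inv F.inj hx, ← W_single] at h
  calc W [1] * W [x] = W [x] * ((W [x])⁻¹ * W [1] * W [x] * W [1]) * (W [1])⁻¹ := by group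
    _ = W [x] * W [1] := by rw [h, inv_of_sq (sqr F (x := 1) (by norm_num)), mul_one]

theorem bs_comm : Commute (W [1]) (W [5]) :=
  comm_of_conj F (by norm_num) (rel_b.2.2.2.2.1 ▸ relW F (i := 16) (by norm_num))

theorem bt_comm : Commute (W [1]) (W [7]) :=
  comm_of_conj F (by norm_num) (rel_b.2.2.2.2.2 ▸ relW F (i := 22) (by norm_num))

theorem bc_cube : W [1, 2, 1, 2, 1, 2] = 1 := rel_b.2.1 ▸ relW F (i := 7) (by norm_num)

theorem ba_cube : W [1, 0, 1, 0, 1, 0] = 1 := by
  have h := rel_b.1 ▸ relW F (i := 5) (by norm_num)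
  rw [show ([0, 1, 0, 1, 0, 1] : List ℕ) = [0] ++ [1, 0, 1, 0, 1] from rfl, W_append] at h
  rw [show ([1, 0, 1, 0, 1, 0] : List ℕ) = [1, 0, 1, 0, 1] ++ [0] from rfl, W_append,
    mul_eq_one_comm.1 h]

/-! ### the centre of a Sylow 2-subgroup -/


theorem centralizer_ker {z : Th} (hz : z ∈ Kw) (h : ∀ q ∈ subs qGens, z * W q = W q * z) :
    z = 1 ∨ z = W [0] := by
  haveI : IsSimpleGroup (alternatingGroup (Fin 9)) := alternatingGroup.isSimpleGroup (by simp)
  let φ := phi F
  let ψ : Kw →* alternatingGroup (Fin 9) :=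
    φ.codRestrict _ fun x => Equiv.Perm.mem_alternatingGroup.2 (sign_phi F x)
  have hψ : Function.Surjective ψ := fun σ => by
    obtain ⟨x, hx⟩ := (phi_range F).ge σ.2
    exact ⟨x, Subtype.ext hx⟩
  let C : Subgroup Kw := centralizer (φ.ker : Set Kw)
  have hzC : (⟨z, hz⟩ : Kw) ∈ C := by
    refine mem_centralizer_iff.2 fun k hk => Subtype.ext ?_
    obtain ⟨q, hq, e⟩ := mem_ker F hk
    show (k : Th) * z = z * k
    rw [e, h q hq]
  haveI : C.Normal := Subgroup.normal_centralizer
  have hN : (C.map ψ).Normal := Subgroup.Normal.map inferInstance ψ hψ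
  rcases hN.eq_bot_or_eq_top with hb | ht
  · have h1 : ψ ⟨z, hz⟩ = 1 := by
      have : ψ ⟨z, hz⟩ ∈ C.map ψ := mem_map_of_mem ψ hzC
      rwa [hb, mem_bot] at this
    obtain ⟨q, hq, e⟩ := mem_ker F (x := ⟨z, hz⟩) (congrArg Subtype.val h1)
    have e' : z = W q := e
    have hmem : q ∈ [[], [0]] := by
      refine mem_of_listOK (hnH F) zOK hq fun p hp => ?_
      obtain ⟨g, hg, rfl⟩ := List.mem_map.1 hp
      rw [W_append, W_append, ← e']
      exact h _ (subs_self hg)
    simp only [List.mem_cons, List.not_mem_nil, or_false] at hmem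
    rcases hmem with rfl | rfl
    · exact Or.inl e'
    · exact Or.inr e'
  · exfalso
    have hd : noB [3] = true := rfl
    obtain ⟨x, hxC, hx⟩ : ψ ⟨W [3], W_mem_Kw hd⟩ ∈ C.map ψ := ht ▸ mem_top _
    obtain ⟨q, hq, e⟩ := mem_ker F (x := x⁻¹ * ⟨W [3], W_mem_Kw hd⟩) (by
      rw [map_mul, map_inv, show φ x = φ ⟨W [3], W_mem_Kw hd⟩ from congrArg Subtype.val hx,
        inv_mul_cancel])
    have hc : noB [2] = true := rfl
    have hc' : φ ⟨W [2], W_mem_Kw hc⟩ = 1 := (phi_W F hc).trans rfl
    have hcom : W [2] * (x : Th) = (x : Th) * W [2] :=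
      congrArg Subtype.val (mem_centralizer_iff.1 hxC _ hc')
    have hD : W [3] = (x : Th) * W q := by rw [← e]; simp
    have key : W [2] * W q = W q * W [3, 2, 3] := by
      rw [show W [3, 2, 3] = (W [3])⁻¹ * W [2] * W [3] by
        rw [inv_of_sq (sqr F (by norm_num)), ← W_append, ← W_append]; rfl, hD]
      simp only [mul_inv_rev, ← mul_assoc, mul_inv_cancel, one_mul]
      rw [mul_assoc (x : Th)⁻¹ (W [2]) (x : Th), hcom, ← mul_assoc, inv_mul_cancel, one_mul]
    have := mem_of_listOK (hnH F) classOK hq fun p hp => by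
      rw [classEq, List.mem_singleton] at hp
      subst hp
      rw [W_append, W_append]
      exact key
    exact List.not_mem_nil this

end CfsgLib.ThAut52
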