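import Cfsg.Agent.ThAut52.Kw
import Cfsg.Agent.ThAut52.ChkE
import Cfsg.Agent.ThAut52.ChkB
import Cfsg.Agent.ThAut52.ChkB2
import Cfsg.Agent.ThAut52.ChkG
import Cfsg.Agent.ThAut52.ChkG2
import Cfsg.Agent.ThAut52.ChkS
import Cfsg.Prelude.Def_KGroupFacts

/-!
Every automorphism of the presented Thompson group is inner.
-/

set_option autoImplicit false
set_option maxRecDepth 100000

namespace CfsgLib.ThAut52

open CfsgLib.ThRep32 CfsgLib.ThCent69 Subgroup

variable (F : Facts)
include F

/-- an automorphism is inner once a conjugate of it is -/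
theorem of_conj {β : MulAut Th} (x : Th) (h : MulAut.conj x * β ∈ Cfsg.Inn Th) :
    β ∈ Cfsg.Inn Th := by
  have := mul_mem (inv_mem (⟨x, rfl⟩ : MulAut.conj x ∈ Cfsg.Inn Th)) h
  rwa [inv_mul_cancel_left] at this

omit F in
theorem conj_mul_apply (x : Th) (β : MulAut Th) (y : Th) :
    (MulAut.conj x * β) y = x * β y * x⁻¹ := rfl

/-- a relation between words, read after the automorphism -/
theorem rel {u v : List ℕ} (h : eqKOK (u, v) = true) (β : MulAut Th) : β (W u) = β (W v) :=
  congrArg β (eqK F h)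

omit F in
theorem map_W (β : Th ≃* Th) : ∀ w : List ℕ, β (W w) = (w.map fun x => β (W [x])).prod
  | [] => map_one β
  | x :: w => by
    rw [List.map_cons, List.prod_cons, ← map_W β w, W_cons, map_mul, W_single]

theorem mem_Kw {β : MulAut Th} (hA : β (W [0]) = W [0]) {x : Th} (hx : x ∈ Kw) : β x ∈ Kw :=
  mem_of_comm F (by
    conv_lhs => rw [← hA, ← map_mul, a_comm F hx]
    rw [map_mul, hA])

/-! ### centralising s -/

theorem cand_s {x : Th} (hx : x ∈ Kw) (h : x * W [5] = W [5] * x) :
    ∃ c ∈ csC, x = W c := by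
  have hs : noB [5] = true := rfl
  have hσ : phi F ⟨x, hx⟩ * Alt.sP = Alt.sP * phi F ⟨x, hx⟩ := by
    have := congrArg (phi F) (show (⟨x, hx⟩ : Kw) * ⟨W [5], W_mem_Kw hs⟩ =
      ⟨W [5], W_mem_Kw hs⟩ * ⟨x, hx⟩ from Subtype.ext h)
    rw [map_mul, map_mul, phi_W F hs] at this
    simpa [P, pv] using this
  obtain ⟨i, hi, e⟩ := centralizer_sP hσ (sign_phi F _)
  have hw : noB (sP i) = true := by interval_cases i <;> rfl
  obtain ⟨q, hq, rfl⟩ := lift_word F hx hw (e.trans rfl)
  have hp : W (sP i) * W [5] = W [5] * W (sP i) := by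
    rw [← W_append, ← W_append]
    interval_cases i <;> rfl
  have hqs : W q * W [5] = W [5] * W q := by
    rw [W_append, mul_assoc, ← mul_assoc (W [5]), ← hp, mul_assoc] at h
    exact mul_left_cancel h
  refine ⟨sP i ++ q, List.mem_flatMap.2 ⟨i, List.mem_range.2 hi, List.mem_map.2 ⟨q, ?_, rfl⟩⟩, rfl⟩
  refine mem_of_listOK (hnH F) cqOK hq fun p hp => ?_
  rw [commEq, List.mem_singleton] at hp
  subst hp
  rw [W_append, W_append]
  exact hqs.symm

omit F in
theorem ok_lists : dS.all noB = true ∧ (dS.all fun d => lst (P d) == lst Alt.dP) = true ∧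
    bC.all (fun x => okW x) = true := by
  decide +kernel

omit F in
theorem okW_iw {w : List ℕ} (h : okW w = true) : okW (iw w) = true := by
  rw [okW_iff] at h ⊢
  intro x hx
  rw [iw, List.mem_reverse, List.mem_map] at hx
  obtain ⟨y, hy, rfl⟩ := hx
  have := h y hy
  interval_cases y <;> decide

/-! ### the image of t -/

theorem stage_t {β : MulAut Th} (hA : β (W [0]) = W [0]) (hs : β (W [5]) = W [5]) :
    ∃ i < 7, β (W [7]) = W (sP i ++ [7]) := by
  set T := β (W [7]) with hT
  have h8 : W [8] = (W [7])⁻¹ := W_iw F.inj (w := [7]) rfl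
  have r0 : (W [7])⁻¹ * W [5] * W [7] = W [5] * W [5] := by
    rw [← h8, ← W_append, ← W_append, ← W_append]
    exact eqK F (by decide +kernel)
  have r1 : T⁻¹ * W [5] * T = W [5] * W [5] := by
    have := congrArg β r0
    rwa [map_mul, map_mul, map_inv, map_mul, hs] at this
  have hy : T * (W [7])⁻¹ * W [5] = W [5] * (T * (W [7])⁻¹) := by
    calc T * (W [7])⁻¹ * W [5] = T * ((W [7])⁻¹ * W [5] * W [7]) * (W [7])⁻¹ := by group
      _ = T * (T⁻¹ * W [5] * T) * (W [7])⁻¹ := by rw [r0, r1]
      _ = _ := by group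
  obtain ⟨c, hc, e⟩ := cand_s F (mul_mem (mem_Kw F hA (W_mem_Kw rfl)) (inv_mem (W_mem_Kw rfl))) hy
  have hTc : T = W (c ++ [7]) := by rw [W_append, ← e, inv_mul_cancel_right]
  have hmem : c ++ [7] ∈ tC := List.mem_map.2 ⟨c, hc, rfl⟩
  have := mem_of_listOK (hnH F) tOK hmem fun p hp => by
    rw [tEq, List.mem_singleton] at hp
    subst hp
    rw [W_append, W_append, ← hTc, hT, ← map_mul, ← map_mul, ← W_append, ← W_append]
    rw [show W ([7] ++ [7] ++ [7]) = 1 from one_of F (by decide +kernel), map_one]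
    rfl
  obtain ⟨i, hi, e'⟩ := List.mem_map.1 this
  exact ⟨i, List.mem_range.1 hi, by rw [hTc, ← e']⟩

/-! ### suffixes and lifts -/

theorem comm_of {u : List ℕ} {x : ℕ} (h : eqKOK (x :: u, u ++ [x]) = true) :
    Commute (W [x]) (W u) := by
  show W [x] * W u = W u * W [x]
  rw [← W_append, ← W_append]
  exact eqK F h

omit F in
/-- the suffix commutes when the element and its lift do -/
theorem suffix_comm {X y : Th} {w q : List ℕ} (hw : Commute y (W w)) (e : X = W (w ++ q))
    (h : y * X = X * y) : Commute y (W q) := by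
  rw [e, W_append, ← mul_assoc, hw.eq, mul_assoc, mul_assoc] at h
  exact mul_left_cancel h

theorem mem_qT {q : List ℕ} (hq : q ∈ subs qGens) (h : Commute (W [7]) (W q)) :
    q ∈ subs qT5 := by
  refine mem_of_listOK (hnH F) ctOK hq fun p hp => ?_
  rw [commEq, List.mem_singleton] at hp
  subst hp
  rw [W_append, W_append]
  exact h.eq

omit F in
theorem zip_fst : ∀ k < 5, (qT5.zip (lift k).2.1).map (·.1) = qT5 := by decide +kernel

/-- a product commuting with t, with its conjugate by a lift; the square of the lift times it -/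
theorem lift_pair {k : ℕ} (hk : k < 5) {q : List ℕ} (hq : q ∈ subs qT5) :
    ∃ q', (q, q') ∈ liftP k ∧ W (liftW k ++ q) * W (liftW k ++ q) = W (sqW k (q, q')) := by
  obtain ⟨q', hp⟩ := exists_subsP (gs := qT5.zip (lift k).2.1) (q := q) (by rwa [zip_fst k hk])
  refine ⟨q', hp, ?_⟩
  have hl := List.all_eq_true.1 lift_ok k (List.mem_range.2 hk)
  rw [Bool.and_eq_true, List.all_eq_true] at hl
  have hc : W (liftW k) * W q = W q' * W (liftW k) := subsP_conj (w := liftW k) (fun g hg => by
    rw [← W_append, ← W_append]; exact eqK F (hl.2 g hg)) hp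
  calc W (liftW k ++ q) * W (liftW k ++ q)
      = W (liftW k) * W q * W (liftW k) * W q := by rw [W_append, ← mul_assoc]
    _ = W q' * (W (liftW k) * W (liftW k)) * W q := by rw [hc, mul_assoc (W q')]
    _ = _ := by
        rw [← W_append (liftW k) (liftW k), eqK F hl.1, sqW, W_append, W_append]

/-- the automorphism fixes a, s and t -/
structure FixAST (β : MulAut Th) : Prop where
  a : β (W [0]) = W [0]
  s : β (W [5]) = W [5]
  t : β (W [7]) = W [7]

theorem sq_map (β : MulAut Th) {x : ℕ} (hx : x < 5) : β (W [x]) * β (W [x]) = 1 := by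
  rw [← map_mul, sqr F hx, map_one]

theorem comm_map (β : MulAut Th) {u v : List ℕ} (h : eqKOK (u ++ v, v ++ u) = true) :
    β (W u) * β (W v) = β (W v) * β (W u) := by
  rw [← map_mul, ← map_mul, ← W_append, ← W_append]
  exact rel F h β

/-! ### the images of c, d, e -/

theorem stage_c {β : MulAut Th} (h : FixAST β) :
    ∃ c ∈ [cS.getD 1 [], cS.getD 2 [], cS.getD 4 [], cS.getD 5 []], β (W [2]) = W c := by
  have hm := mem_Kw F h.a (W_mem_Kw (w := [2]) rfl)
  have hcs : β (W [2]) * W [5] = W [5] * β (W [2]) := by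
    conv_lhs => rw [← h.s]
    conv_rhs => rw [← h.s]
    exact comm_map F β (by decide +kernel)
  obtain ⟨c, hc, e⟩ := cand_s F hm hcs
  have hmem := mem_of_listOK (hnH F) cOK hc fun p hp => by
    simp only [cEq, List.mem_cons, List.not_mem_nil, or_false] at hp
    rcases hp with rfl | rfl
    · rw [W_append, ← e]
      exact sq_map F β (by norm_num)
    · rw [W_append, W_append, ← e, ← h.t]
      exact comm_map F β (by decide +kernel)
  refine ⟨c, ?_, e⟩
  have h1 : c ≠ [] := by
    rintro rfl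
    exact hnH F ne_facts.1 (β.injective (e.trans (map_one β).symm))
  have h2 : c ≠ [0] := by
    rintro rfl
    exact hnH F ne_facts.2.1 (β.injective (e.trans h.a.symm))
  have := List.all_eq_true.1 (show cS.all (fun x => x == [] || x == [0] ||
    [cS.getD 1 [], cS.getD 2 [], cS.getD 4 [], cS.getD 5 []].elem x) = true by decide +kernel) _ hmem
  simpa [h1, h2] using this

theorem stage_d {β : MulAut Th} (h : FixAST β) : ∃ d ∈ dS, β (W [3]) = W d := by
  set D := β (W [3]) with hD
  have d2 : D * D = 1 := sq_map F β (by norm_num)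
  have r0 : W [3] * W [5] * W [3] * W [5] = 1 := by
    rw [← W_append, ← W_append, ← W_append]
    exact one_of F (by decide +kernel)
  have r1 : D * W [5] * D * W [5] = 1 := by
    have := congrArg β r0
    rwa [map_mul, map_mul, map_mul, h.s, map_one, ← hD] at this
  have hy : D * W [3] * W [5] = W [5] * (D * W [3]) := by
    have e0 : W [3] * W [5] * W [3] = D * W [5] * D := mul_right_cancel (r0.trans r1.symm)
    calc D * W [3] * W [5] = D * (W [3] * W [5] * W [3]) * W [3] := by
          rw [mul_assoc D (W [3] * W [5] * W [3]), mul_assoc (W [3] * W [5]), sqr F (by norm_num),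
            mul_one]
          rw [mul_assoc D]
      _ = D * (D * W [5] * D) * W [3] := by rw [e0]
      _ = _ := by rw [← mul_assoc D (D * W [5]) D, ← mul_assoc D D, d2, one_mul, mul_assoc]
  obtain ⟨c, hc, e⟩ := cand_s F (mul_mem (mem_Kw F h.a (W_mem_Kw rfl)) (W_mem_Kw rfl)) hy
  have hDc : D = W (c ++ [3]) := by
    rw [W_append, ← e, mul_assoc, sqr F (by norm_num), mul_one]
  have hmemC : c ++ [3] ∈ dC := List.mem_map.2 ⟨c, hc, rfl⟩
  have hmem := mem_of_listOK (hnH F) dOK hmemC fun p hp => by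
    simp only [cEq, List.mem_cons, List.not_mem_nil, or_false] at hp
    rcases hp with rfl | rfl
    · rw [W_append, ← hDc]; exact d2
    · rw [W_append (c ++ [3]) [7], W_append [7] (c ++ [3]), ← hDc, hD, ← h.t]
      exact comm_map F β (by decide +kernel)
  exact ⟨_, hmem, hDc⟩

/-- the image in the alternating group of an image -/
theorem phi_eq {β : MulAut Th} (hA : β (W [0]) = W [0]) {u v : List ℕ} (hu : noB u = true)
    (hv : noB v = true) (e : β (W u) = W v) :
    phi F ⟨β (W u), mem_Kw F hA (W_mem_Kw hu)⟩ = P v := by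
  rw [show (⟨β (W u), mem_Kw F hA (W_mem_Kw hu)⟩ : Kw) = ⟨W v, W_mem_Kw hv⟩ from Subtype.ext e,
    phi_W F hv]

theorem stage_e {β : MulAut Th} (h : FixAST β) {d : List ℕ} (hd : d ∈ dS) (eD : β (W [3]) = W d) :
    ∃ e ∈ eS, β (W [4]) = W e := by
  let f : List ℕ → P9 := fun w => if hw : noB w = true then
    phi F ⟨β (W w), mem_Kw F h.a (W_mem_Kw hw)⟩ else 1
  have f_mul : ∀ u v, noB u = true → noB v = true → f (u ++ v) = f u * f v := fun u v hu hv => by
    simp only [f, noB_append, hu, hv, Bool.and_self, dite_true, ← map_mul]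
    exact congrArg (phi F) (Subtype.ext ((congrArg β (W_append u v)).trans (map_mul β _ _)))
  have fs : f [5] = Alt.sP := by
    simp only [f, show noB [5] = true from rfl, dite_true, phi_eq F h.a rfl rfl h.s]
    simp [P, pv]
  have fS : f [6] = Alt.sP⁻¹ := by
    have := f_mul [6] [5] rfl rfl
    have h1 : f ([6] ++ [5]) = 1 := by
      simp only [f, show noB ([6] ++ [5]) = true from rfl, dite_true]
      rw [← map_one (phi F)]
      refine congrArg _ (Subtype.ext ?_)
      show β (W ([6] ++ [5])) = 1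
      rw [one_of F (by decide +kernel), map_one]
    rw [h1, fs] at this
    exact eq_inv_of_mul_eq_one_left this.symm
  have fd : f [3] = Alt.dP := by
    have hdn : noB d = true := List.all_eq_true.1 ok_lists.1 _ hd
    simp only [f, show noB [3] = true from rfl, dite_true, phi_eq F h.a rfl hdn eD]
    exact lst_inj (eq_of_beq (List.all_eq_true.1 ok_lists.2.1 _ hd))
  have ft : f [7] = Alt.tP := by
    simp only [f, show noB [7] = true from rfl, dite_true, phi_eq F h.a rfl rfl h.t]
    simp [P, pv]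
  have f_rel : ∀ u v, noB u = true → noB v = true → eqKOK (u, v) = true → f u = f v :=
    fun u v hu hv he => by
      simp only [f, hu, hv, dite_true]
      exact congrArg (phi F) (Subtype.ext (rel F he β))
  have f1 : f [] = 1 := by
    simp only [f, show noB [] = true from rfl, dite_true]
    rw [← map_one (phi F)]
    exact congrArg _ (Subtype.ext (map_one β))
  have cT : f [4] * Alt.tP = Alt.tP * f [4] := by
    rw [← ft, ← f_mul _ _ rfl rfl, ← f_mul _ _ rfl rfl]
    exact f_rel _ _ rfl rfl (by decide +kernel)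
  have c2 : f [4] * f [4] = 1 := by
    rw [← f_mul _ _ rfl rfl, ← f1]
    exact f_rel _ _ rfl rfl (by decide +kernel)
  have c3 : Alt.dP * f [4] * (Alt.dP * f [4]) * (Alt.dP * f [4]) = 1 := by
    rw [← fd, ← f_mul _ _ rfl rfl, ← f_mul _ _ rfl rfl, ← f_mul _ _ rfl rfl, ← f1]
    exact f_rel _ _ rfl rfl (by decide +kernel)
  have c4 : f [4] * Alt.sP⁻¹ * f [4] * Alt.sP =
      Alt.sP⁻¹ * Alt.sP⁻¹ * Alt.sP⁻¹ * f [4] * (Alt.sP * Alt.sP * Alt.sP) := by
    rw [← fS, ← fs]
    simp only [← f_mul _ _ (rfl : noB [4] = true) (rfl : noB [6] = true)]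
    rw [← f_mul _ _ rfl rfl, ← f_mul _ _ rfl rfl, ← f_mul _ _ rfl rfl, ← f_mul _ _ rfl rfl,
      ← f_mul _ _ rfl rfl, ← f_mul _ _ rfl rfl, ← f_mul _ _ rfl rfl, ← f_mul _ _ rfl rfl]
    exact f_rel _ _ rfl rfl (by decide +kernel)
  have hm : β (W [4]) ∈ Kw := mem_Kw F h.a (W_mem_Kw rfl)
  have hf : phi F ⟨β (W [4]), hm⟩ = f [4] := by simp [f, show noB [4] = true from rfl]
  have tcomm : W [7] * β (W [4]) = β (W [4]) * W [7] := by
    rw [← h.t]; exact comm_map F β (by decide +kernel)
  have X2 : β (W [4]) * β (W [4]) = 1 := sq_map F β (by norm_num)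
  obtain ⟨x, hx, e⟩ : ∃ x ∈ eC, β (W [4]) = W x := by
    rcases e_bar cT c2 c3 c4 (by rw [← hf]; exact sign_phi F _) with he | he
    · obtain ⟨q, hq, e⟩ := lift_word F hm rfl (hf.trans he)
      have w7 : Commute (W [7]) (W [4]) := comm_of F liftT_ok.2.2.2.2.2.2.2
      have hqT := mem_qT F hq (suffix_comm w7 e tcomm)
      refine ⟨_, List.mem_append.2 (Or.inl (List.mem_map.2 ⟨q, ?_, rfl⟩)), e⟩
      refine mem_of_listOK (hnH F) e0OK hqT fun p hp => ?_
      rw [sq0Eq, List.mem_singleton] at hp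
      subst hp
      rw [show [4] ++ q ++ [4] ++ q = ([4] ++ q) ++ ([4] ++ q) from List.append_assoc _ _ _,
        W_append, ← e]
      exact X2
    · obtain ⟨q, hq, e⟩ := lift_word F hm (w := liftW 0) rfl (hf.trans he)
      have w7 : Commute (W [7]) (W (liftW 0)) := comm_of F liftT_ok.1
      obtain ⟨q', hp, e2⟩ := lift_pair F (k := 0) (by norm_num)
        (mem_qT F hq (suffix_comm w7 e tcomm))
      refine ⟨_, List.mem_append.2 (Or.inr (List.mem_map.2 ⟨(q, q'), ?_, rfl⟩)), e⟩
      refine mem_of_listOK (hnH F) e1OK hp fun p hp' => ?_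
      rw [sqEq, List.mem_singleton] at hp'
      subst hp'
      rw [← e2, ← e]
      exact X2
  refine ⟨x, ?_, e⟩
  have he : ∀ p ∈ eEq x, W p.1 = W p.2 := fun p hp => by
    rw [eEq, List.mem_singleton] at hp
    subst hp
    have h6 : β (W [6]) = W [6] := by
      rw [show W [6] = (W [5])⁻¹ from W_iw F.inj (w := [5]) rfl, map_inv, h.s]
    rw [show ([6, 6, 6] : List ℕ) = [6] ++ [6] ++ [6] from rfl,
      show ([5, 5, 5] : List ℕ) = [5] ++ [5] ++ [5] from rfl]
    simp only [W_append, ← e]
    rw [← h.s, ← h6]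
    simp only [← map_mul, ← W_append]
    exact rel F (by decide +kernel) β
  rw [← List.take_append_drop 8 eC, List.mem_append] at hx
  rcases hx with hx | hx
  · exact mem_of_listOK hnR eOK0 hx he
  · exact mem_of_listOK hnR eOK1 hx he

theorem stage_tri {β : MulAut Th} (h : FixAST β) :
    ∃ t ∈ triS, β (W [2]) = W t.1 ∧ β (W [3]) = W t.2.1 ∧ β (W [4]) = W t.2.2 := by
  obtain ⟨c, hc, eC'⟩ := stage_c F h
  obtain ⟨d, hd, eD⟩ := stage_d F h
  obtain ⟨x, hx, eX⟩ := stage_e F h hd eD
  have hmem : (c, d, x) ∈ triC := List.mem_flatMap.2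
    ⟨c, hc, List.mem_flatMap.2 ⟨d, hd, List.mem_map.2 ⟨x, hx, rfl⟩⟩⟩
  refine ⟨(c, d, x), mem_of_listOK (hnH F) triOK hmem fun p hp => ?_, eC', eD, eX⟩
  simp only [triEq, List.mem_cons, List.not_mem_nil, or_false] at hp
  rcases hp with rfl | rfl
  · rw [W_append, W_append, ← eC', ← eX]
    exact comm_map F β (by decide +kernel)
  · simp only [W_append, ← eD, ← eX]
    simp only [← map_mul, ← W_append]
    rw [one_of F (w := [3] ++ [4] ++ [3] ++ [4] ++ [3] ++ [4]) (by decide +kernel), map_one]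
    rfl

end CfsgLib.ThAut52
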