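import Cfsg.Agent.ThRep32.Rep

/-!
Words in the presented Thompson group, told apart and identified by the representation.
-/

set_option autoImplicit false
set_option maxRecDepth 100000

namespace CfsgLib.ThAut52

open CfsgLib.ThRep32 Matrix

abbrev Th := Cfsg.Spor.Th

/-- the value of a word -/
def W (w : List ℕ) : Th := (w.map letter).prod

theorem W_nil : W [] = 1 := rfl

theorem W_append (u v : List ℕ) : W (u ++ v) = W u * W v := by simp [W]

theorem W_cons (x : ℕ) (v : List ℕ) : W (x :: v) = letter x * W v := by simp [W]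

theorem W_single (x : ℕ) : W [x] = letter x := by simp [W]

/-- the inverse word -/
def iw (w : List ℕ) : List ℕ := (w.map invL).reverse

/-- the letters are in range -/
def okW (w : List ℕ) : Bool := w.all fun x => Nat.blt x 11

theorem okW_iff {w : List ℕ} : okW w = true ↔ ∀ x ∈ w, x < 11 := by
  rw [okW, List.all_eq_true]
  refine forall₂_congr fun x _ => ?_
  show Nat.ble (x + 1) 11 = true ↔ x < 11
  rw [Nat.ble_eq]
  exact Nat.succ_le_iff

/-- the first vector read modulo the masks -/
def red (x : ℕ × ℕ) : ℕ × ℕ := (x.1 % 2 ^ 248, x.2 % 2 ^ 248)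

theorem good_red {x : ℕ × ℕ} (h : goodB x = true) : goodB (red x) = true := by
  rw [goodB_iff] at h ⊢
  intro j
  have := h j
  simp only [red, Nat.testBit_mod_two_pow]
  by_cases hj : j < 248 <;> simp [hj, this]

theorem vecOf_red (x : ℕ × ℕ) : vecOf (red x) = vecOf x := by
  funext j
  simp [-Nat.reducePow, vecOf, dg, red, Nat.testBit_mod_two_pow, j.isLt]

/-- the two vectors differ -/
def diff (x y : ℕ × ℕ) : Bool :=
  !(Nat.beq (x.1 % 2 ^ 248) (y.1 % 2 ^ 248) && Nat.beq (x.2 % 2 ^ 248) (y.2 % 2 ^ 248))

theorem red_eq {x y : ℕ × ℕ} (hx : goodB x = true) (hy : goodB y = true)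
    (h : vecOf x = vecOf y) : red x = red y :=
  vecOf_inj (good_red hx) (good_red hy)
    ⟨Nat.mod_lt _ (Nat.two_pow_pos _), Nat.mod_lt _ (Nat.two_pow_pos _)⟩
    ⟨Nat.mod_lt _ (Nat.two_pow_pos _), Nat.mod_lt _ (Nat.two_pow_pos _)⟩
    (by rw [vecOf_red, vecOf_red, h])

theorem diff_red {x y : ℕ × ℕ} (h : red x = red y) : diff x y = false := by
  simp only [red, Prod.mk.injEq] at h
  simp [-Nat.reducePow, diff, h.1, h.2]

/-- a word applied to a packed vector -/
def run (w : List ℕ) (v : ℕ × ℕ) : ℕ × ℕ := vrun pkL w v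

theorem vrun_append (u w : List ℕ) : ∀ v, vrun pkL (u ++ w) v = vrun pkL w (vrun pkL u v) := by
  induction u with
  | nil => exact fun v => rfl
  | cons x u ih => exact fun v => ih _

theorem run_append (u w : List ℕ) (v : ℕ × ℕ) : run (u ++ w) v = run w (run u v) :=
  vrun_append u w v

theorem diff_eq_false {v : ℕ × ℕ} (hv : goodB v = true) {x y : List ℕ}
    (hx : okW x = true) (hy : okW y = true) (h : W x = W y) :
    diff (run x v) (run y v) = false := by
  refine diff_red (red_eq (good_vrun x v hv) (good_vrun y v hv) ?_)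
  unfold run
  rw [vecOf_vrun x v hx, vecOf_vrun y v hy]
  unfold W at h
  rw [h]

/-! ### equalities -/

variable (hinj : Function.Injective rep)
include hinj

theorem eq_one {w : List ℕ} (h : idOK w = true) : W w = 1 := by
  apply hinj
  rw [map_one]
  refine Units.ext ?_
  show _ = (1 : Matrix (Fin 248) (Fin 248) (ZMod 3))
  unfold W
  rw [rep_prod]
  exact prod_one h

theorem letter_inv {x : ℕ} (hx : x < 11) : letter (invL x) = (letter x)⁻¹ := by
  refine eq_inv_of_mul_eq_one_right ?_
  apply hinj
  rw [map_one, map_mul]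
  refine Units.ext ?_
  rw [Units.val_mul, rep_letter, rep_letter]
  exact inv_word hx

theorem W_iw : ∀ {w : List ℕ}, okW w = true → W (iw w) = (W w)⁻¹
  | [], _ => by simp [iw, W]
  | x :: w, h => by
    rw [okW_iff] at h
    have ih := W_iw (w := w) (okW_iff.2 fun y hy => h y (List.mem_cons_of_mem _ hy))
    rw [show iw (x :: w) = iw w ++ [invL x] by simp [iw], W_append, ih, W_single, W_cons, _root_.mul_inv_rev,
      letter_inv hinj (h x List.mem_cons_self)]

/-- the two words have the same image -/
theorem eq_of_idOK {u v : List ℕ} (hv : okW v = true) (h : idOK (u ++ iw v) = true) :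
    W u = W v := by
  have := eq_one hinj h
  rw [W_append, W_iw hinj hv] at this
  exact mul_inv_eq_one.1 this

end CfsgLib.ThAut52
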